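import Groth.Agent.EtStrictBC.AcycExt
import Groth.Agent.EtContLib.BaseSys
import Mathlib.Algebra.Homology.ShortComplex.Ab

/-!
# Pullback on cohomology through complexes of sections
-/

set_option autoImplicit false
set_option linter.style.haveILetI false

universe w u

open CategoryTheory CategoryTheory.Limits AlgebraicGeometry Opposite CategoryTheory.Abelian

namespace Groth.Agent.EtStrictBC

set_option backward.isDefEq.respectTransparency false
set_option backward.isDefEq.respectTransparency.types false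

section Elems

variable (K : CochainComplex AddCommGrpCat.{w} ℕ) (n : ℕ)

theorem iCycles_injective : Function.Injective (K.iCycles n) :=
  (AddCommGrpCat.mono_iff_injective _).1 inferInstance

theorem homologyπ_surjective : Function.Surjective (K.homologyπ n) :=
  (AddCommGrpCat.epi_iff_surjective _).1 inferInstance

theorem exists_cycle (z : K.X n) (hz : K.d n (n + 1) z = 0) : ∃ c, K.iCycles n c = z :=
  (ShortComplex.ab_exact_iff (ShortComplex.mk (K.iCycles n) (K.d n (n + 1)) (K.iCycles_d n (n + 1)))).1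
    (ShortComplex.exact_of_f_is_kernel _ (K.cyclesIsKernel n (n + 1) (by simp))) z hz

theorem iCycles_d_apply (c : K.cycles n) : K.d n (n + 1) (K.iCycles n c) = 0 := by
  rw [← ConcreteCategory.comp_apply, K.iCycles_d]
  rfl

theorem homologyπ_eq_zero_iff (c : K.cycles n) :
    K.homologyπ n c = 0 ↔ ∃ w, K.d ((ComplexShape.up ℕ).prev n) n w = K.iCycles n c := by
  constructor
  · intro h
    obtain ⟨w, hw⟩ := (ShortComplex.ab_exact_iff (ShortComplex.mk (K.toCycles ((ComplexShape.up ℕ).prev n) n)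
      (K.homologyπ n) (K.toCycles_comp_homologyπ _ _))).1
      (ShortComplex.exact_of_g_is_cokernel _ (K.homologyIsCokernel _ n rfl)) c h
    refine ⟨w, ?_⟩
    rw [← show K.toCycles _ n w = c from hw, ← ConcreteCategory.comp_apply, K.toCycles_i]
  · rintro ⟨w, hw⟩
    have : K.toCycles _ n w = c := iCycles_injective K n (by
      rw [← ConcreteCategory.comp_apply, K.toCycles_i, hw])
    rw [← this, ← ConcreteCategory.comp_apply, K.toCycles_comp_homologyπ]
    rfl

variable {K} {M : CochainComplex AddCommGrpCat.{w} ℕ}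

/-- Isomorphisms on homology of complexes of abelian groups, on elements. -/
theorem quasiIsoAt_iff_elems (φ : K ⟶ M) :
    QuasiIsoAt φ n ↔
      (∀ z : K.X n, K.d n (n + 1) z = 0 → (∃ w, M.d ((ComplexShape.up ℕ).prev n) n w = φ.f n z) →
        ∃ w, K.d ((ComplexShape.up ℕ).prev n) n w = z) ∧
      (∀ y : M.X n, M.d n (n + 1) y = 0 →
        ∃ z : K.X n, K.d n (n + 1) z = 0 ∧ ∃ w, M.d ((ComplexShape.up ℕ).prev n) n w = φ.f n z - y) := by
  have hπ : ∀ c, HomologicalComplex.homologyMap φ n (K.homologyπ n c) =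
      M.homologyπ n (HomologicalComplex.cyclesMap φ n c) := fun c => by
    rw [← ConcreteCategory.comp_apply, HomologicalComplex.homologyπ_naturality]
    rfl
  have hi : ∀ c, M.iCycles n (HomologicalComplex.cyclesMap φ n c) = φ.f n (K.iCycles n c) := fun c => by
    rw [← ConcreteCategory.comp_apply, HomologicalComplex.cyclesMap_i]
    rfl
  rw [quasiIsoAt_iff_isIso_homologyMap, ConcreteCategory.isIso_iff_bijective]
  constructor
  · rintro ⟨hinj, hsurj⟩
    refine ⟨fun z hz hb => ?_, fun y hy => ?_⟩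
    · obtain ⟨c, rfl⟩ := exists_cycle K n z hz
      refine (homologyπ_eq_zero_iff K n c).1 (hinj ?_)
      rw [hπ, map_zero, homologyπ_eq_zero_iff, hi]
      exact hb
    · obtain ⟨d, rfl⟩ := exists_cycle M n y hy
      obtain ⟨x, hx⟩ := hsurj (M.homologyπ n d)
      obtain ⟨c, rfl⟩ := homologyπ_surjective K n x
      refine ⟨K.iCycles n c, iCycles_d_apply K n c, ?_⟩
      rw [← hi, ← map_sub]
      refine (homologyπ_eq_zero_iff M n _).1 ?_
      rw [map_sub, ← hπ, hx, sub_self]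
  · rintro ⟨h₁, h₂⟩
    refine ⟨(injective_iff_map_eq_zero _).2 fun x hx => ?_, fun y => ?_⟩
    · obtain ⟨c, rfl⟩ := homologyπ_surjective K n x
      rw [hπ, homologyπ_eq_zero_iff, hi] at hx
      exact (homologyπ_eq_zero_iff K n c).2 (h₁ _ (iCycles_d_apply K n c) hx)
    · obtain ⟨d, rfl⟩ := homologyπ_surjective M n y
      obtain ⟨z, hz, hb⟩ := h₂ _ (iCycles_d_apply M n d)
      obtain ⟨c, rfl⟩ := exists_cycle K n z hz
      refine ⟨K.homologyπ n c, ?_⟩
      rw [hπ, ← sub_eq_zero, ← map_sub, homologyπ_eq_zero_iff, map_sub, hi]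
      exact hb

end Elems

section Sec

variable {Q P : Scheme.{u}}

/-- A morphism from the constant sheaf as a global section. -/
noncomputable def eSec {A : EtCoh.Ab Q} (a : EtCoh.const Q ℤ ⟶ A) : (EtCore.gsec Q).obj A :=
  (EtCore.constAdj Q).homEquiv (AddCommGrpCat.of (ULift.{u + 1} ℤ)) A a (ULift.up 1)

theorem eSec_eq {A : EtCoh.Ab Q} (a : EtCoh.const Q ℤ ⟶ A) : eSec a = EtContLib.h0Sec A (Ext.mk₀ a) :=
  (EtContLib.h0Sec_mk₀ A a).symm

theorem eSec_bijective (A : EtCoh.Ab Q) : Function.Bijective (eSec (A := A)) := by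
  rw [funext eSec_eq]
  exact (EtContLib.h0Sec_bijective A).comp (Ext.mk₀_bijective _ _)

theorem eSec_comp {A B : EtCoh.Ab Q} (a : EtCoh.const Q ℤ ⟶ A) (φ : A ⟶ B) :
    eSec (a ≫ φ) = (EtCore.gsec Q).map φ (eSec a) :=
  congrArg (fun ψ : AddCommGrpCat.of (ULift.{u + 1} ℤ) ⟶ (EtCore.gsec Q).obj B => ψ (ULift.up 1))
    ((EtCore.constAdj Q).homEquiv_naturality_right a φ)

theorem eSec_sub {A : EtCoh.Ab Q} (a b : EtCoh.const Q ℤ ⟶ A) : eSec (a - b) = eSec a - eSec b :=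
  congrArg (fun φ : AddCommGrpCat.of (ULift.{u + 1} ℤ) ⟶ (EtCore.gsec Q).obj A => φ (ULift.up 1))
    (((EtCore.constAdj Q).homAddEquiv (AddCommGrpCat.of (ULift.{u + 1} ℤ)) A).map_sub a b)

theorem eSec_zero (A : EtCoh.Ab Q) : eSec (0 : EtCoh.const Q ℤ ⟶ A) = 0 := by
  simpa using eSec_sub (0 : EtCoh.const Q ℤ ⟶ A) 0

theorem eSec_pull (m : P ⟶ Q) {A : EtCoh.Ab Q} {B : EtCoh.Ab P} (a : EtCoh.const Q ℤ ⟶ A)
    (φ : (EtCoh.pull m).obj A ⟶ B) :
    eSec ((EtCore.pullConst m ℤ).inv ≫ (EtCoh.pull m).map a ≫ φ) =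
      (EtCore.gsec P).map φ ((EtMVLib.pullSec m).app A (eSec a)) := by
  unfold eSec
  rw [Adjunction.homEquiv_naturality_right, EtMVLib.homEquiv_pullConst_inv, Category.assoc, Functor.map_comp]
  have hn := (EtMVLib.pullSec m).naturality a
  simp only [Functor.comp_map] at hn
  rw [← Category.assoc ((EtMVLib.pullSec m).app _), ← hn, Adjunction.homEquiv_unit]
  rfl

end Sec

section Crit

variable {Q P : Scheme.{u}} (m : P ⟶ Q) [PreservesFiniteLimits (EtCoh.pull m)]
  {G : EtCoh.Ab Q} {K : CochainComplex (EtCoh.Ab Q) ℕ} (ι : (CochainComplex.single₀ _).obj G ⟶ K) [QuasiIso ι]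
  {G' : EtCoh.Ab P} {M : CochainComplex (EtCoh.Ab P) ℕ} (ι' : (CochainComplex.single₀ _).obj G' ⟶ M) [QuasiIso ι']
  (α : (EtCoh.pull m).obj G ⟶ G') (χ : ((EtCoh.pull m).mapHomologicalComplex (ComplexShape.up ℕ)).obj K ⟶ M)
  (hα : α ≫ ι'.f 0 = (EtCoh.pull m).map (ι.f 0) ≫ χ.f 0)
  (hK : ∀ i a, Subsingleton (EtCoh.H Q (K.X i) (a + 1))) (hM : ∀ i a, Subsingleton (EtCoh.H P (M.X i) (a + 1)))

/-- The map on complexes of sections. -/
noncomputable def secCx : ((EtCore.gsec Q).mapHomologicalComplex (ComplexShape.up ℕ)).obj K ⟶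
    ((EtCore.gsec P).mapHomologicalComplex (ComplexShape.up ℕ)).obj M where
  f i := (EtMVLib.pullSec m).app (K.X i) ≫ (EtCore.gsec P).map (χ.f i)
  comm' i j _ := by
    show ((EtMVLib.pullSec m).app (K.X i) ≫ (EtCore.gsec P).map (χ.f i)) ≫ (EtCore.gsec P).map (M.d i j) =
      (EtCore.gsec Q).map (K.d i j) ≫ (EtMVLib.pullSec m).app (K.X j) ≫ (EtCore.gsec P).map (χ.f j)
    have hn := (EtMVLib.pullSec m).naturality (K.d i j)
    simp only [Functor.comp_map] at hn
    rw [Category.assoc, ← Functor.map_comp, χ.comm, Functor.map_comp, reassoc_of% hn]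
    rfl

omit [QuasiIso ι] in
theorem eSec_cocycle {i : ℕ} (a : EtCoh.const Q ℤ ⟶ Zc K i) (φ : (EtCoh.pull m).obj (K.X i) ⟶ M.X i) :
    eSec ((EtCore.pullConst m ℤ).inv ≫ (EtCoh.pull m).map (a ≫ kernel.ι (K.d i (i + 1))) ≫ φ) =
      (EtCore.gsec P).map φ ((EtMVLib.pullSec m).app (K.X i) (eSec (a ≫ kernel.ι (K.d i (i + 1))))) :=
  eSec_pull m _ φ

include hα hK hM in
/-- Bijectivity of pullback on cohomology, on complexes of sections. -/
theorem bijective_HpullThen_iff (n : ℕ) :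
    Function.Bijective (EtLim.HpullThen m G α n) ↔ QuasiIsoAt (secCx m χ) n := by
  have hacK : ∀ (i a : ℕ) (x : Ext (EtCoh.const Q ℤ) (K.X i) (a + 1)), x = 0 :=
    fun i a x => @Subsingleton.elim _ (hK i a) x 0
  have hacM : ∀ (i a : ℕ) (x : Ext (EtCoh.const P ℤ) (M.X i) (a + 1)), x = 0 :=
    fun i a x => @Subsingleton.elim _ (hM i a) x 0
  let im : (EtCoh.const Q ℤ ⟶ Zc K n) → (EtCoh.const P ℤ ⟶ Zc M n) := fun a =>
    (EtCore.pullConst m ℤ).inv ≫ (EtCoh.pull m).map a ≫ zMap (EtCoh.pull m) χ n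
  have hΨ : ∀ a : EtCoh.const Q ℤ ⟶ Zc K n, EtLim.HpullThen m G α n (cls ι n a) = cls ι' n (im a) := fun a => by
    rw [EtContLib.HpullThen_apply]
    exact cls_map (EtCoh.pull m) ι ι' α χ hα (EtCore.pullConst m ℤ).inv n a
  have him : ∀ a : EtCoh.const Q ℤ ⟶ Zc K n, eSec (im a ≫ kernel.ι (M.d n (n + 1))) =
      (secCx m χ).f n (eSec (a ≫ kernel.ι (K.d n (n + 1)))) := fun a => by
    simp only [im, Category.assoc, zMap_ι]
    rw [← Category.assoc ((EtCoh.pull m).map a), ← Functor.map_comp]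
    exact eSec_cocycle m a (χ.f n)
  -- boundaries
  have hbd : ∀ {R : Scheme.{u}} {H : CochainComplex (EtCoh.Ab R) ℕ} (b : EtCoh.const R ℤ ⟶ H.X n),
      (∃ y : EtCoh.const R ℤ ⟶ H.X ((ComplexShape.up ℕ).prev n), y ≫ H.d ((ComplexShape.up ℕ).prev n) n = b) ↔
      ∃ w, (((EtCore.gsec R).mapHomologicalComplex (ComplexShape.up ℕ)).obj H).d ((ComplexShape.up ℕ).prev n) n w =
        eSec b := by
    intro R H b
    constructor
    · rintro ⟨y, rfl⟩
      exact ⟨eSec y, (eSec_comp y _).symm⟩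
    · rintro ⟨w, hw⟩
      obtain ⟨y, rfl⟩ := (eSec_bijective _).2 w
      exact ⟨y, (eSec_bijective _).1 ((eSec_comp y _).trans hw)⟩
  -- cocycles
  have hcy : ∀ {R : Scheme.{u}} {H : CochainComplex (EtCoh.Ab R) ℕ}
      (z : (((EtCore.gsec R).mapHomologicalComplex (ComplexShape.up ℕ)).obj H).X n),
      (((EtCore.gsec R).mapHomologicalComplex (ComplexShape.up ℕ)).obj H).d n (n + 1) z = 0 →
      ∃ a : EtCoh.const R ℤ ⟶ Zc H n, eSec (a ≫ kernel.ι (H.d n (n + 1))) = z := by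
    intro R H z hz
    obtain ⟨b, rfl⟩ := (eSec_bijective _).2 z
    refine ⟨kernel.lift _ b ((eSec_bijective _).1 ?_), by rw [kernel.lift_ι]⟩
    rw [eSec_comp, eSec_zero]
    exact hz
  have hcy' : ∀ {R : Scheme.{u}} {H : CochainComplex (EtCoh.Ab R) ℕ} (a : EtCoh.const R ℤ ⟶ Zc H n),
      (((EtCore.gsec R).mapHomologicalComplex (ComplexShape.up ℕ)).obj H).d n (n + 1)
        (eSec (a ≫ kernel.ι (H.d n (n + 1)))) = 0 := by
    intro R H a
    show (EtCore.gsec R).map (H.d n (n + 1)) _ = 0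
    rw [← eSec_comp, Category.assoc, kernel.condition, comp_zero, eSec_zero]
  have hzK : ∀ a : EtCoh.const Q ℤ ⟶ Zc K n, cls ι n a = 0 ↔
      ∃ w, (((EtCore.gsec Q).mapHomologicalComplex (ComplexShape.up ℕ)).obj K).d ((ComplexShape.up ℕ).prev n) n w =
        eSec (a ≫ kernel.ι (K.d n (n + 1))) :=
    fun a => (cls_eq_zero_iff ι hacK n a).trans (hbd _)
  have hzM : ∀ a : EtCoh.const P ℤ ⟶ Zc M n, cls ι' n a = 0 ↔
      ∃ w, (((EtCore.gsec P).mapHomologicalComplex (ComplexShape.up ℕ)).obj M).d ((ComplexShape.up ℕ).prev n) n w =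
        eSec (a ≫ kernel.ι (M.d n (n + 1))) :=
    fun a => (cls_eq_zero_iff ι' hacM n a).trans (hbd _)
  rw [quasiIsoAt_iff_elems]
  constructor
  · rintro ⟨hinj, hsurj⟩
    refine ⟨fun z hz hb => ?_, fun y hy => ?_⟩
    · obtain ⟨a, rfl⟩ := hcy z hz
      refine (hzK a).1 (hinj ?_)
      rw [map_zero, hΨ, hzM, him]
      exact hb
    · obtain ⟨b, rfl⟩ := hcy y hy
      obtain ⟨x, hx⟩ := hsurj (cls ι' n b)
      obtain ⟨a, rfl⟩ := cls_surjective ι hacK n x
      refine ⟨_, hcy' a, ?_⟩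
      rw [← him, ← eSec_sub, ← Preadditive.sub_comp]
      refine (hzM _).1 ?_
      rw [cls_sub, ← hΨ, hx, sub_self]
  · rintro ⟨h₁, h₂⟩
    refine ⟨(injective_iff_map_eq_zero _).2 fun x hx => ?_, fun y => ?_⟩
    · obtain ⟨a, rfl⟩ := cls_surjective ι hacK n x
      rw [hΨ, hzM, him] at hx
      exact (hzK a).2 (h₁ _ (hcy' a) hx)
    · obtain ⟨b, rfl⟩ := cls_surjective ι' hacM n y
      obtain ⟨z, hz, hb⟩ := h₂ _ (hcy' b)
      obtain ⟨a, rfl⟩ := hcy z hz
      refine ⟨cls ι n a, ?_⟩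
      rw [hΨ, ← sub_eq_zero, ← cls_sub, hzM, Preadditive.sub_comp, eSec_sub, him]
      exact hb

end Crit

end Groth.Agent.EtStrictBC
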