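import Groth.Agent.EtStrictBC.Sections
import Groth.Agent.EtPBC0.StrictBC

/-!
# The base change map on sections over strict localizations
-/

set_option autoImplicit false
set_option linter.style.haveILetI false

universe u

open CategoryTheory CategoryTheory.Limits AlgebraicGeometry Opposite

namespace Groth.Agent.EtStrictBC

set_option backward.isDefEq.respectTransparency false
set_option backward.isDefEq.respectTransparency.types false

theorem secAt_congr {X Z : Scheme.{u}} (q : X ⟶ Z) (V : Z.Etale) {t t' : X ⟶ V.left} (e : t = t')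
    (w : t ≫ V.hom = q) (w' : t' ≫ V.hom = q) (F : EtCoh.Ab Z) (s : F.obj.obj (op V)) :
    EtContLib.secAt q V t w F s = EtContLib.secAt q V t' w' F s := by
  subst e; rfl

theorem secAt_pull {X Z : Scheme.{u}} (q : X ⟶ Z) (V : Z.Etale) (t : X ⟶ V.left) (w : t ≫ V.hom = q)
    {F G : EtCoh.Ab Z} (a : F ⟶ G) (s : F.obj.obj (op V)) :
    (EtCore.gsec X).map ((EtCoh.pull q).map a) (EtContLib.secAt q V t w F s) =
      EtContLib.secAt q V t w G (a.hom.app (op V) s) :=
  (EtContLib.secAt_natural q V t w a s).symm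

theorem app5 {A B C D E F : AddCommGrpCat.{u + 1}} (a : A ⟶ B) (b : B ⟶ C) (c : C ⟶ D) (d : D ⟶ E) (e : E ⟶ F)
    (x : A) : (a ≫ b ≫ c ≫ d ≫ e) x = e (d (c (b (a x)))) := by
  rw [ConcreteCategory.comp_apply, ConcreteCategory.comp_apply, ConcreteCategory.comp_apply,
    ConcreteCategory.comp_apply]

theorem inv_app {A B : AddCommGrpCat.{u + 1}} (a : A ⟶ B) (b : B ⟶ A) (hab : a ≫ b = 𝟙 _) (x : A) (y : B)
    (h : a x = y) : b y = x := by
  subst h
  exact (ConcreteCategory.comp_apply a b x).symm.trans (congrArg (fun q : A ⟶ A => q x) hab)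

theorem chain2 {A B C D E F : AddCommGrpCat.{u + 1}} (a : A ⟶ B) (b : B ⟶ C) (c : C ⟶ D) (d : D ⟶ E) (e : E ⟶ F)
    (x : A) (y : B) (z : C) (ha : a x = y) (hb : b y = z) : (a ≫ b ≫ c ≫ d ≫ e) x = e (d (c z)) := by
  rw [app5, ha, hb]

section Square

variable {X S Y T BX BS PX PS : Scheme.{u}} (f : X ⟶ S) (g : T ⟶ S) (h : Y ⟶ X) (e : Y ⟶ T) (w : e ≫ g = h ≫ f)
  (sX : BX ⟶ X) (sS : BS ⟶ S) (sψ : BX ⟶ BS) (hcomp : sψ ≫ sS = sX ≫ f)
  (aS : PS ⟶ T) (bS : PS ⟶ BS) (wS : aS ≫ g = bS ≫ sS) (bY : PX ⟶ Y) (bX : PX ⟶ BX) (wY : bY ≫ h = bX ≫ sX)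
  (aX : PX ⟶ T) (wa : bY ≫ e = aX) (m : PX ⟶ PS) (hm₁ : m ≫ aS = aX) (hm₂ : m ≫ bS = bX ≫ sψ)

/-- The base change map on sections over the parts over strict localizations. -/
noncomputable def lhsSec (A : EtCoh.Ab T) :
    (EtCore.gsec BS).obj ((EtCoh.pull sS).obj ((EtCoh.push g).obj A)) ⟶ (EtCore.gsec PX).obj ((EtCoh.pull aX).obj A) :=
  resSec sψ sS (sX ≫ f) hcomp ((EtCoh.push g).obj A) ≫
    (EtCore.gsec BX).map (EtContLib.pullVia sX f (sX ≫ f) rfl ((EtCoh.push g).obj A)).inv ≫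
    (EtCore.gsec BX).map ((EtCoh.pull sX).map (EtCoh.baseChange0 g f h e w A)) ≫
    pushSec h sX bX bY wY ((EtCoh.pull e).obj A) ≫ (EtCore.gsec PX).map (EtContLib.pullVia bY e aX wa A).hom

include hm₂ in
theorem lhsSec_secAt (A : EtCoh.Ab T) (V : S.Etale) (t : BS ⟶ V.left) (wt : t ≫ V.hom = sS)
    (s : A.obj.obj (op ((EtCoh.bc g).obj V))) :
    lhsSec f g h e w sX sS sψ hcomp bY bX wY aX wa A (EtContLib.secAt sS V t wt ((EtCoh.push g).obj A) s) =
      resSec m aS aX hm₁ A (pushSec g sS bS aS wS A (EtContLib.secAt sS V t wt ((EtCoh.push g).obj A) s)) := by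
  have wt' : (sψ ≫ t) ≫ V.hom = sX ≫ f := by rw [Category.assoc, wt, hcomp]
  let tX : BX ⟶ ((EtCoh.bc f).obj V).left := pullback.lift (sψ ≫ t) sX wt'
  have hX₁ : tX ≫ pullback.fst V.hom f = sψ ≫ t := pullback.lift_fst _ _ _
  have hX₂ : tX ≫ ((EtCoh.bc f).obj V).hom = sX := pullback.lift_snd _ _ _
  have h₁ : (EtCore.gsec BX).map (EtContLib.pullVia sX f (sX ≫ f) rfl ((EtCoh.push g).obj A)).inv
      (EtContLib.secAt (sX ≫ f) V (sψ ≫ t) wt' ((EtCoh.push g).obj A) s) =
      EtContLib.secAt sX ((EtCoh.bc f).obj V) tX hX₂ ((EtCoh.pull f).obj ((EtCoh.push g).obj A)) (EtBCQ.upA f ((EtCoh.push g).obj A) V s) := by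
    exact inv_app _ _ (((EtCore.gsec BX).map_comp _ _).symm.trans ((congrArg (EtCore.gsec BX).map
      (EtContLib.pullVia sX f (sX ≫ f) rfl ((EtCoh.push g).obj A)).hom_inv_id).trans ((EtCore.gsec BX).map_id _))) _ _
      (pullVia_secAt_up sX f (sX ≫ f) rfl ((EtCoh.push g).obj A) V tX hX₂ (sψ ≫ t) hX₁ wt' s)
  let τ := pushLift h sX bX bY wY ((EtCoh.bc f).obj V) tX hX₂
  have hτ : τ ≫ ((EtCoh.bc h).obj ((EtCoh.bc f).obj V)).hom = bY := pushLift_hom _ _ _ _ _ _ _ _
  let τ' := τ ≫ (EtFound.bcSquare w V).left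
  have hτ' : τ' ≫ ((EtCoh.bc e).obj ((EtCoh.bc g).obj V)).hom = bY :=
    (Category.assoc _ _ _).trans ((whisker_eq τ (MorphismProperty.Over.w (EtFound.bcSquare w V))).trans hτ)
  have hτ'' : (τ' ≫ pullback.fst ((EtCoh.bc g).obj V).hom e) ≫ ((EtCoh.bc g).obj V).hom = aX := by
    rw [Category.assoc, pullback.condition, ← Category.assoc, ← wa]
    exact eq_whisker hτ' e
  rw [lhsSec]
  refine (chain2 _ _ _ _ _ _ _ _ (resSec_secAt sψ sS (sX ≫ f) hcomp ((EtCoh.push g).obj A) V t wt (sψ ≫ t) rfl wt' s) h₁).trans ?_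
  rw [secAt_pull, EtBCQ.baseChange0_upA]
  erw [pushSec_secAt]
  erw [EtContLib.secAt_map bY (EtFound.bcSquare w V) τ hτ τ' hτ' rfl]
  rw [pullVia_secAt_up bY e aX wa A ((EtCoh.bc g).obj V) τ' hτ' (τ' ≫ pullback.fst ((EtCoh.bc g).obj V).hom e) rfl hτ'' s,
    pushSec_secAt,
    resSec_secAt m aS aX hm₁ A ((EtCoh.bc g).obj V) (pushLift g sS bS aS wS V t wt) (pushLift_hom g sS bS aS wS V t wt)
      (m ≫ pushLift g sS bS aS wS V t wt) rfl
      (by rw [Category.assoc, pushLift_hom, hm₁])]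
  refine secAt_congr aX _ (pullback.hom_ext ?_ ?_) _ _ A s
  · simp only [τ', Category.assoc]
    rw [EtBCQ.bcSquare_fst' w V, pushLift_fst, reassoc_of% hm₂]
    exact (eq_whisker (pushLift_fst h sX bX bY wY ((EtCoh.bc f).obj V) tX hX₂) _).trans
      ((Category.assoc _ _ _).trans (whisker_eq bX hX₁))
  · exact hτ''.trans (((Category.assoc _ _ _).trans (whisker_eq m (pushLift_hom g sS bS aS wS V t wt))).trans hm₁).symm

end Square

section Strict

variable {X S : Scheme.{u}}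

/-- Base change to a strict localization is an isomorphism on sections. -/
theorem pushSec_bijective {T P : Scheme.{u}} (g : T ⟶ S) [QuasiCompact g] [QuasiSeparated g] (s : S) (R : Type u)
    [CommRing R] [IsLocalRing R] [Algebra (S.presheaf.stalk s) R] [IsLocalHom (algebraMap (S.presheaf.stalk s) R)]
    [Hensel.IsStrictHenselization (S.presheaf.stalk s) R] (b : P ⟶ Spec (CommRingCat.of R)) (a : P ⟶ T)
    (sq : IsPullback a b g (Hens2.specOf S s R)) (A : EtCoh.Ab T) :
    Function.Bijective (pushSec g (Hens2.specOf S s R) b a sq.w A) := by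
  obtain ⟨ι, _, _, _, E, π, ⟨hc⟩, hA, hwh⟩ := EtContLib.exists_strict_limit S s R
  let hS := Hens2.specOf S s R
  let c : Cone (EtContLib.stages E) := Cone.mk (Spec (CommRingCat.of R)) π
  have wh : ∀ i, EtContLib.pr (EtContLib.stages E) c i ≫ (E.obj (op i)).hom = hS := fun i => hwh (op i)
  have haff : ∀ ⦃i j : ιᵒᵖ⦄ (m : i ⟶ j), IsAffineHom ((EtContLib.stages E).map m) := fun i j m =>
    haveI : IsAffine ((EtContLib.stages E).obj i) := hA i
    haveI : IsAffine ((EtContLib.stages E).obj j) := hA j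
    isAffineHom_of_isAffine _
  have hqc : ∀ i, CompactSpace ↥((EtContLib.stages E).obj i) := fun i =>
    haveI : IsAffine ((EtContLib.stages E).obj i) := hA i
    inferInstance
  have hqs : ∀ i, QuasiSeparatedSpace ↥((EtContLib.stages E).obj i) := fun i =>
    haveI : IsAffine ((EtContLib.stages E).obj i) := hA i
    inferInstance
  let i₀ : P ≅ pullback g hS := sq.isoPullback
  let cP := (EtContLib.bcCone g E c hS wh).extend i₀.hom
  have hcP : IsLimit cP := IsLimit.extendIso (s := EtContLib.bcCone g E c hS wh) i₀.hom (EtContLib.isLimitBcCone g E c hS wh hc)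
  have whP : ∀ i, EtContLib.pr (EtContLib.stages (EtContLib.bcE g E)) cP i ≫ ((EtContLib.bcE g E).obj (op i)).hom = a :=
    fun i => (Category.assoc _ _ _).trans ((whisker_eq i₀.hom (EtContLib.bcCone_wh g E c hS wh i)).trans
      sq.isoPullback_hom_fst)
  have haffP : ∀ ⦃i j : ιᵒᵖ⦄ (m : i ⟶ j), IsAffineHom ((EtContLib.stages (EtContLib.bcE g E)).map m) :=
    fun _ _ m => EtContLib.isAffineHom_bcE g E hA m
  have key : ∀ i (r : ((EtCoh.push g).obj A).obj.obj (op (E.obj (op i)))),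
      pushSec g hS b a sq.w A (EtContLib.limSec E c hS wh ((EtCoh.push g).obj A) i r) =
        EtContLib.limSec (EtContLib.bcE g E) cP a whP A i r := fun i r => by
    refine (pushSec_secAt g hS b a sq.w A (E.obj (op i)) _ (wh i) r).trans ?_
    refine secAt_congr a _ (pullback.hom_ext ?_ ?_) _ _ A r
    · refine (pushLift_fst g hS b a sq.w _ _ _).trans ?_
      refine Eq.trans ?_ (((Category.assoc _ _ _).trans (whisker_eq i₀.hom (pullback.lift_fst _ _ _))).symm)
      exact (eq_whisker sq.isoPullback_hom_snd.symm _).trans (Category.assoc _ _ _)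
    · exact (pushLift_hom g hS b a sq.w _ _ _).trans (whP i).symm
  refine ⟨(injective_iff_map_eq_zero _).2 fun ξ hξ => ?_, fun ζ => ?_⟩
  · obtain ⟨i, r, rfl⟩ := EtContLib.limSec_surj E c hS wh ((EtCoh.push g).obj A) haff hqc hqs hc ξ
    rw [key] at hξ
    obtain ⟨k, hk, h0⟩ := EtContLib.limSec_inj (EtContLib.bcE g E) cP a whP A haffP
      (fun i => (EtContLib.qcqs_bcE g E hA i).1) (fun i => (EtContLib.qcqs_bcE g E hA i).2) hcP i r hξ
    rw [← EtContLib.limSec_map E c hS wh ((EtCoh.push g).obj A) hk r]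
    exact (congrArg _ h0).trans (map_zero _)
  · obtain ⟨i, r, rfl⟩ := EtContLib.limSec_surj (EtContLib.bcE g E) cP a whP A haffP
      (fun i => (EtContLib.qcqs_bcE g E hA i).1) (fun i => (EtContLib.qcqs_bcE g E hA i).2) hcP ζ
    exact ⟨EtContLib.limSec E c hS wh ((EtCoh.push g).obj A) i r, key i r⟩

/-- Morphisms of sheaves are detected on strict localizations. -/
theorem isIso_of_gsec_strict {F G : EtCoh.Ab X} (φ : F ⟶ G)
    (H : ∀ (x : X), Function.Bijective ((EtCore.gsec (Spec (CommRingCat.of (Hensel.StrictHenz (X.presheaf.stalk x))))).map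
      ((EtCoh.pull (Hens2.specOf X x (Hensel.StrictHenz (X.presheaf.stalk x)))).map φ))) : IsIso φ := by
  refine (EtFound.isIso_iff_stalks φ).2 fun Ω _ _ η => ?_
  obtain ⟨x, τ, hτ⟩ := EtPBC0.exists_fac_strictHenz η
  let R := Hensel.StrictHenz (X.presheaf.stalk x)
  haveI : IsSepClosed (IsLocalRing.ResidueField R) :=
    (Hensel.isSepClosure_residueField_strictHenz (X.presheaf.stalk x)).sep_closed
  let hX := Hens2.specOf X x R
  have hn : ∀ z, (Scheme.pointSmallEtale (EtFound.cpt R ≫ hX)).sheafFiber.map φ (stalkSec hX F z) =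
      stalkSec hX G ((EtCore.gsec (Spec (CommRingCat.of R))).map ((EtCoh.pull hX).map φ) z) := fun z => by
    show _ = (EtFound.sheafFiberPullIso (A := AddCommGrpCat.{u + 1}) hX (EtFound.cpt R)).hom.app G
      ((Scheme.pointSmallEtale (EtFound.cpt R)).toPresheafFiber _ (EtFound.cptTop R) ((EtCoh.pull hX).obj G).obj
        (((EtCoh.pull hX).map φ).hom.app (op (EtCoh.top (Spec (CommRingCat.of R)))) z))
    rw [← (Scheme.pointSmallEtale (EtFound.cpt R)).toPresheafFiber_naturality_apply]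
    exact (NatTrans.naturality_apply (EtFound.sheafFiberPullIso (A := AddCommGrpCat.{u + 1}) hX (EtFound.cpt R)).hom φ
      ((Scheme.pointSmallEtale (EtFound.cpt R)).toPresheafFiber _ (EtFound.cptTop R) ((EtCoh.pull hX).obj F).obj z)).symm
  have hb : Function.Bijective ((Scheme.pointSmallEtale (EtFound.cpt R ≫ hX)).sheafFiber.map φ) := by
    refine (Function.Bijective.of_comp_iff _ (stalkSec_bijective hX F)).1 ?_
    rw [show (fun z => _) ∘ (fun z => stalkSec hX F z) = _ from funext hn]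
    exact (stalkSec_bijective hX G).comp (H x)
  haveI : IsIso ((Scheme.pointSmallEtale (EtFound.cpt R ≫ hX)).sheafFiber.map φ) :=
    (ConcreteCategory.isIso_iff_bijective _).2 hb
  subst hτ
  exact (NatIso.isIso_map_iff (EtFound.stalkExtIso AddCommGrpCat.{u + 1} (EtFound.cpt R ≫ hX)
    (Spec.map (CommRingCat.ofHom τ))) φ).1 inferInstance

end Strict

end Groth.Agent.EtStrictBC
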