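import Groth.Agent.EtStrictBC.Square
import Groth.Agent.EtStrictBC.Crit
import Groth.Agent.EtBCQ.Formula

/-!
# Base change on strict localizations
-/

set_option autoImplicit false
set_option linter.style.haveILetI false
set_option maxHeartbeats 1000000

universe u

open CategoryTheory CategoryTheory.Limits AlgebraicGeometry Opposite HomologicalComplex

namespace Groth.Agent.EtStrictBC

set_option backward.isDefEq.respectTransparency false
set_option backward.isDefEq.respectTransparency.types false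

/-- Injective sheaves restricted to the part over a strict localization are acyclic. -/
theorem subsingleton_H_strict {T S P : Scheme.{u}} (g : T ⟶ S) [QuasiCompact g] [QuasiSeparated g] (s : S)
    (R : Type u) [CommRing R] [IsLocalRing R] [Algebra (S.presheaf.stalk s) R]
    [IsLocalHom (algebraMap (S.presheaf.stalk s) R)] [Hensel.IsStrictHenselization (S.presheaf.stalk s) R]
    (b : P ⟶ Spec (CommRingCat.of R)) (a : P ⟶ T) (sq : IsPullback a b g (Hens2.specOf S s R))
    (I : EtCoh.Ab T) [Injective I] (n : ℕ) : Subsingleton (EtCoh.H P ((EtCoh.pull a).obj I) (n + 1)) := by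
  obtain ⟨ι, _, _, _, E, π, ⟨hc⟩, hA, hwh⟩ := EtContLib.exists_strict_limit S s R
  let hS := Hens2.specOf S s R
  let c : Cone (EtContLib.stages E) := Cone.mk (Spec (CommRingCat.of R)) π
  have wh : ∀ i, EtContLib.pr (EtContLib.stages E) c i ≫ (E.obj (op i)).hom = hS := fun i => hwh (op i)
  let i₀ : P ≅ pullback g hS := sq.isoPullback
  let cP := (EtContLib.bcCone g E c hS wh).extend i₀.hom
  have hcP : IsLimit cP :=
    IsLimit.extendIso (s := EtContLib.bcCone g E c hS wh) i₀.hom (EtContLib.isLimitBcCone g E c hS wh hc)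
  have whP : ∀ i, EtContLib.pr (EtContLib.stages (EtContLib.bcE g E)) cP i ≫ ((EtContLib.bcE g E).obj (op i)).hom = a :=
    fun i => (Category.assoc _ _ _).trans ((whisker_eq i₀.hom (EtContLib.bcCone_wh g E c hS wh i)).trans
      sq.isoPullback_hom_fst)
  exact EtContLib.subsingleton_H_pull_injective (EtContLib.bcE g E) cP a whP I
    (fun _ _ m => EtContLib.isAffineHom_bcE g E hA m) (fun i => (EtContLib.qcqs_bcE g E hA i).1)
    (fun i => (EtContLib.qcqs_bcE g E hA i).2) hcP n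

section Aug

universe v₁ v₂ v₃ v₄ u₁ u₂ u₃ u₄

variable {A : Type u₁} [Category.{v₁} A] [Abelian A] {B : Type u₂} [Category.{v₂} B] [Abelian B]
  {C : Type u₃} [Category.{v₃} C] [Abelian C] {D : Type u₄} [Category.{v₄} D] [Abelian D]
  (L₁ : A ⥤ B) (L₂ : B ⥤ C) (R₁ : A ⥤ D) (R₂ : D ⥤ C) [L₁.Additive] [L₂.Additive] [R₁.Additive] [R₂.Additive]
  {N : A ⥤ C} (e₁ : L₁ ⋙ L₂ ≅ N) (e₂ : R₁ ⋙ R₂ ≅ N) {F : A} {I : CochainComplex A ℕ} {J : CochainComplex D ℕ}
  (ι : (CochainComplex.single₀ A).obj F ⟶ I) (ιJ : (CochainComplex.single₀ D).obj (R₁.obj F) ⟶ J)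
  (χ₀ : (R₁.mapHomologicalComplex (ComplexShape.up ℕ)).obj I ⟶ J)

/-- The comparison of two composites of resolutions. -/
noncomputable def compareCx : (L₂.mapHomologicalComplex (ComplexShape.up ℕ)).obj
      ((L₁.mapHomologicalComplex (ComplexShape.up ℕ)).obj I) ⟶ (R₂.mapHomologicalComplex (ComplexShape.up ℕ)).obj J where
  f i := (e₁.app (I.X i)).hom ≫ (e₂.app (I.X i)).inv ≫ R₂.map (χ₀.f i)
  comm' i j _ := by
    simp only [Iso.app_hom, Iso.app_inv, Category.assoc, Functor.mapHomologicalComplex_obj_d, ← Functor.map_comp,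
      χ₀.comm]
    rw [Functor.map_comp, ← Category.assoc (e₂.inv.app (I.X i))]
    have h₂ := e₂.inv.naturality (I.d i j)
    have h₁ := e₁.hom.naturality (I.d i j)
    simp only [Functor.comp_map] at h₁ h₂
    rw [← h₂, Category.assoc, reassoc_of% h₁]

theorem compareCx_f (i : ℕ) :
    (compareCx L₁ L₂ R₁ R₂ e₁ e₂ χ₀).f i = (e₁.app (I.X i)).hom ≫ (e₂.app (I.X i)).inv ≫ R₂.map (χ₀.f i) :=
  rfl

theorem compareCx_zero (hχ : R₁.map (ι.f 0) ≫ χ₀.f 0 = ιJ.f 0) :
    (e₁.app F).hom ≫ ((CochainComplex.single₀ C).map (e₂.app F).inv ≫ RDer.mapAug R₂ ιJ).f 0 =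
      L₂.map ((RDer.mapAug L₁ ι).f 0) ≫ (compareCx L₁ L₂ R₁ R₂ e₁ e₂ χ₀).f 0 := by
  have h₁ := e₁.hom.naturality (ι.f 0)
  have h₂ := e₂.inv.naturality (ι.f 0)
  simp only [Functor.comp_map] at h₁ h₂
  rw [HomologicalComplex.comp_f, CochainComplex.single₀_map_f_zero, EtBCQ.mapAug_zero, EtBCQ.mapAug_zero, compareCx_f,
    ← hχ, Functor.map_comp]
  simp only [Iso.app_hom, Iso.app_inv]
  rw [reassoc_of% h₁, reassoc_of% h₂]
  rfl

end Aug

section Degree

variable {X S Y T BX BS PX PS : Scheme.{u}} (f : X ⟶ S) (g : T ⟶ S) (h : Y ⟶ X) (e : Y ⟶ T) (w : e ≫ g = h ≫ f)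
  (sX : BX ⟶ X) (sS : BS ⟶ S) (σ : BX ⟶ BS) (hcomp : σ ≫ sS = sX ≫ f)
  (aS : PS ⟶ T) (bS : PS ⟶ BS) (wS : aS ≫ g = bS ≫ sS) (bY : PX ⟶ Y) (bX : PX ⟶ BX) (wY : bY ≫ h = bX ≫ sX)
  (aX : PX ⟶ T) (wa : bY ≫ e = aX) (m : PX ⟶ PS) (hm₁ : m ≫ aS = aX)

theorem square_of_surj (hm₂ : m ≫ bS = bX ≫ σ) (A : EtCoh.Ab T)
    (hs : ∀ ξ : (EtCore.gsec BS).obj ((EtCoh.pull sS).obj ((EtCoh.push g).obj A)),
      ∃ (V : S.Etale) (t : BS ⟶ V.left) (wt : t ≫ V.hom = sS)
        (r : ((EtCoh.push g).obj A).obj.obj (op V)), EtContLib.secAt sS V t wt ((EtCoh.push g).obj A) r = ξ) :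
    pushSec g sS bS aS wS A ≫ resSec m aS aX hm₁ A = lhsSec f g h e w sX sS σ hcomp bY bX wY aX wa A := by
  refine ConcreteCategory.hom_ext _ _ fun ξ => ?_
  obtain ⟨V, t, wt, r, rfl⟩ := hs ξ
  refine (ConcreteCategory.comp_apply _ _ _).trans ?_
  exact (lhsSec_secAt f g h e w sX sS σ hcomp aS bS wS bY bX wY aX wa m hm₁ hm₂ A V t wt r).symm

theorem secCx_square {A : EtCoh.Ab T} {B : EtCoh.Ab Y} (φ : (EtCoh.pull e).obj A ⟶ B)
    (hsq : pushSec g sS bS aS wS A ≫ resSec m aS aX hm₁ A = lhsSec f g h e w sX sS σ hcomp bY bX wY aX wa A) :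
    pushSec g sS bS aS wS A ≫ (EtMVLib.pullSec m).app ((EtCoh.pull aS).obj A) ≫
        (EtCore.gsec PX).map ((EtContLib.pullVia m aS aX hm₁ A).hom ≫ (EtContLib.pullVia bY e aX wa A).inv ≫
          (EtCoh.pull bY).map φ) =
      (resSec σ sS (sX ≫ f) hcomp ((EtCoh.push g).obj A) ≫
        (EtCore.gsec BX).map (EtContLib.pullVia sX f (sX ≫ f) rfl ((EtCoh.push g).obj A)).inv) ≫
        (EtCore.gsec BX).map ((EtCoh.pull sX).map (EtCoh.baseChange0 g f h e w A ≫ (EtCoh.push h).map φ)) ≫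
          pushSec h sX bX bY wY B := by
  rw [Functor.map_comp (EtCore.gsec PX), ← Category.assoc ((EtMVLib.pullSec m).app _)]
  rw [show (EtMVLib.pullSec m).app ((EtCoh.pull aS).obj A) ≫
      (EtCore.gsec PX).map (EtContLib.pullVia m aS aX hm₁ A).hom = resSec m aS aX hm₁ A from rfl, reassoc_of% hsq]
  rw [lhsSec]
  simp only [Category.assoc]
  refine whisker_eq _ (whisker_eq _ ?_)
  rw [← Functor.map_comp (EtCore.gsec PX), Iso.hom_inv_id_assoc, Functor.map_comp, Functor.map_comp, Category.assoc]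
  exact whisker_eq _ (pushSec_naturality h sX bX bY wY φ).symm

end Degree

section Local

variable {X S Y T : Scheme.{u}} (f : X ⟶ S) (g : T ⟶ S) [QuasiCompact g] [QuasiSeparated g] (h : Y ⟶ X) (e : Y ⟶ T)
  (c : IsPullback e h g f) [PreservesFiniteLimits (EtCoh.pull e)] {F : EtCoh.Ab T} (I : InjectiveResolution F)
  (J : InjectiveResolution ((EtCoh.pull e).obj F))
  (χ₀ : ((EtCoh.pull e).mapHomologicalComplex (ComplexShape.up ℕ)).obj I.cocomplex ⟶ J.cocomplex)
  (hχ₀ : (EtCoh.pull e).map (I.ι.f 0) ≫ χ₀.f 0 = J.ι.f 0)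
  (x : X) (RS : Type u) [CommRing RS] [IsLocalRing RS] [Algebra (S.presheaf.stalk (f.base x)) RS]
  [IsLocalHom (algebraMap (S.presheaf.stalk (f.base x)) RS)] [Hensel.IsStrictHenselization (S.presheaf.stalk (f.base x)) RS]
  (RX : Type u) [CommRing RX] [IsLocalRing RX] [Algebra (X.presheaf.stalk x) RX]
  [IsLocalHom (algebraMap (X.presheaf.stalk x) RX)] [Hensel.IsStrictHenselization (X.presheaf.stalk x) RX]
  (ψ : RS →+* RX) [IsLocalHom ψ]
  (hψ : ψ.comp (algebraMap (S.presheaf.stalk (f.base x)) RS) = (algebraMap (X.presheaf.stalk x) RX).comp (f.stalkMap x).hom)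
  {PS PX : Scheme.{u}} (aS : PS ⟶ T) (bS : PS ⟶ Spec (CommRingCat.of RS))
  (cS : IsPullback aS bS g (Hens2.specOf S (f.base x) RS))
  (aX : PX ⟶ T) (bX : PX ⟶ Spec (CommRingCat.of RX)) (cX : IsPullback aX bX g (Hens2.specOf X x RX ≫ f))
  (m : PX ⟶ PS) (w : m ≫ aS = aX) (hm : m ≫ bS = bX ≫ Spec.map (CommRingCat.ofHom ψ))
  [PreservesFiniteLimits (EtCoh.pull m)]

include c hχ₀ hψ cS cX hm in
/-- Pullback between strict localizations computes the base change map at a point. -/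
theorem bijective_HpullVia_iff (q : ℕ) :
    Function.Bijective (EtCore.HpullVia m aS aX w F q) ↔
      Function.Bijective ((EtCore.gsec (Spec (CommRingCat.of RX))).map ((EtCoh.pull (Hens2.specOf X x RX)).map
        (homologyMap (EtBCQ.theta g f h e c.w I J χ₀) q))) := by
  haveI : HenselianLocalRing RX := Hensel.IsStrictHenselization.henselian (R := X.presheaf.stalk x)
  haveI : IsSepClosed (IsLocalRing.ResidueField RX) :=
    (Hensel.IsStrictHenselization.isSepClosure (R := X.presheaf.stalk x) (S := RX)).sep_closed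
  haveI : HenselianLocalRing RS := Hensel.IsStrictHenselization.henselian (R := S.presheaf.stalk (f.base x))
  haveI : IsSepClosed (IsLocalRing.ResidueField RS) :=
    (Hensel.IsStrictHenselization.isSepClosure (R := S.presheaf.stalk (f.base x)) (S := RS)).sep_closed
  haveI : QuasiCompact h := MorphismProperty.of_isPullback c ‹QuasiCompact g›
  haveI : QuasiSeparated h := MorphismProperty.of_isPullback c ‹QuasiSeparated g›
  let sX := Hens2.specOf X x RX
  let sS := Hens2.specOf S (f.base x) RS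
  let σ := Spec.map (CommRingCat.ofHom ψ)
  have hcomp : σ ≫ sS = sX ≫ f := (EtPBC0.specOf_comp f x RS RX ψ hψ).symm
  -- the part over the source inside `Y`
  let bY : PX ⟶ Y := c.lift aX (bX ≫ sX) (cX.w.trans (Category.assoc _ _ _).symm)
  have wa : bY ≫ e = aX := c.lift_fst _ _ _
  have wY : bY ≫ h = bX ≫ sX := c.lift_snd _ _ _
  have sqX : IsPullback bY bX h sX := IsPullback.of_right (by rw [wa]; exact cX) wY c
  haveI := EtFound.pull_preservesFiniteLimits aS
  haveI := EtFound.pull_preservesFiniteLimits bY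
  haveI := EtFound.pull_preservesFiniteLimits sX
  -- the resolutions
  let K := ((EtCoh.pull aS).mapHomologicalComplex (ComplexShape.up ℕ)).obj I.cocomplex
  let M := ((EtCoh.pull bY).mapHomologicalComplex (ComplexShape.up ℕ)).obj J.cocomplex
  let ιK : (CochainComplex.single₀ _).obj ((EtCoh.pull aS).obj F) ⟶ K := RDer.mapAug (EtCoh.pull aS) I.ι
  let d := (EtContLib.pullVia bY e aX wa F).inv
  let ιM : (CochainComplex.single₀ _).obj ((EtCoh.pull aX).obj F) ⟶ M :=
    (CochainComplex.single₀ _).map d ≫ RDer.mapAug (EtCoh.pull bY) J.ι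
  haveI : QuasiIso ιM := inferInstance
  let χ : ((EtCoh.pull m).mapHomologicalComplex (ComplexShape.up ℕ)).obj K ⟶ M :=
    compareCx (EtCoh.pull aS) (EtCoh.pull m) (EtCoh.pull e) (EtCoh.pull bY)
      ((EtCore.pullComp m aS).symm ≪≫ EtCore.pullCongr w) ((EtCore.pullComp bY e).symm ≪≫ EtCore.pullCongr wa) χ₀
  have hα : (EtContLib.pullVia m aS aX w F).hom ≫ ιM.f 0 = (EtCoh.pull m).map (ιK.f 0) ≫ χ.f 0 :=
    compareCx_zero (EtCoh.pull aS) (EtCoh.pull m) (EtCoh.pull e) (EtCoh.pull bY)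
      ((EtCore.pullComp m aS).symm ≪≫ EtCore.pullCongr w) ((EtCore.pullComp bY e).symm ≪≫ EtCore.pullCongr wa)
      I.ι J.ι χ₀ hχ₀
  have hK : ∀ i a, Subsingleton (EtCoh.H PS (K.X i) (a + 1)) := fun i a =>
    subsingleton_H_strict g (f.base x) RS bS aS cS (I.cocomplex.X i) a
  have hM : ∀ i a, Subsingleton (EtCoh.H PX (M.X i) (a + 1)) := fun i a =>
    subsingleton_H_strict h x RX bX bY sqX (J.cocomplex.X i) a
  refine (show Function.Bijective (EtLim.HpullThen m ((EtCoh.pull aS).obj F) (EtContLib.pullVia m aS aX w F).hom q) ↔ _ from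
    (bijective_HpullThen_iff m ιK ιM (EtContLib.pullVia m aS aX w F).hom χ hα hK hM q).trans ?_)
  -- the natural comparisons
  let Φ := EtCoh.pull sX ⋙ EtCore.gsec (Spec (CommRingCat.of RX))
  let P₁ : EtCoh.push g ⋙ EtCoh.pull sS ⋙ EtCore.gsec (Spec (CommRingCat.of RS)) ⟶ EtCoh.pull aS ⋙ EtCore.gsec PS :=
    { app := fun A => pushSec g sS bS aS cS.w A
      naturality := fun _ _ φ => pushSec_naturality g sS bS aS cS.w φ }
  let P₂ : EtCoh.push h ⋙ Φ ⟶ EtCoh.pull bY ⋙ EtCore.gsec PX :=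
    { app := fun A => pushSec h sX bX bY wY A
      naturality := fun _ _ φ => pushSec_naturality h sX bX bY wY φ }
  let U : EtCoh.push g ⋙ EtCoh.pull sS ⋙ EtCore.gsec (Spec (CommRingCat.of RS)) ⟶ (EtCoh.push g ⋙ EtCoh.pull f) ⋙ Φ :=
    Functor.whiskerLeft (EtCoh.push g)
      ({ app := fun A => resSec σ sS (sX ≫ f) hcomp A
         naturality := fun _ _ φ => resSec_naturality σ sS (sX ≫ f) hcomp φ } :
        EtCoh.pull sS ⋙ EtCore.gsec (Spec (CommRingCat.of RS)) ⟶
          EtCoh.pull (sX ≫ f) ⋙ EtCore.gsec (Spec (CommRingCat.of RX))) ≫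
    Functor.whiskerLeft (EtCoh.push g) (Functor.whiskerRight
      ((EtCore.pullComp sX f).symm ≪≫ EtCore.pullCongr (rfl : sX ≫ f = sX ≫ f)).inv
      (EtCore.gsec (Spec (CommRingCat.of RX))))
  haveI : ∀ A, IsIso (P₁.app A) := fun A =>
    (ConcreteCategory.isIso_iff_bijective _).2 (pushSec_bijective g (f.base x) RS bS aS cS A)
  haveI : ∀ A, IsIso (P₂.app A) := fun A =>
    (ConcreteCategory.isIso_iff_bijective _).2 (pushSec_bijective h x RX bX bY sqX A)
  haveI : ∀ A, IsIso (U.app A) := fun A => by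
    haveI : IsIso (resSec σ sS (sX ≫ f) hcomp ((EtCoh.push g).obj A)) :=
      (ConcreteCategory.isIso_iff_bijective _).2 (resSec_bijective RS RX ψ (f.base x) (sX ≫ f) hcomp _)
    show IsIso (resSec σ sS (sX ≫ f) hcomp ((EtCoh.push g).obj A) ≫
      (EtCore.gsec _).map (EtContLib.pullVia sX f (sX ≫ f) rfl ((EtCoh.push g).obj A)).inv)
    infer_instance
  haveI : IsIso P₁ := NatIso.isIso_of_isIso_app _
  haveI : IsIso P₂ := NatIso.isIso_of_isIso_app _
  haveI : IsIso U := NatIso.isIso_of_isIso_app _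
  let a₁ := (NatTrans.mapHomologicalComplex P₁ (ComplexShape.up ℕ)).app I.cocomplex
  let u₁ := (NatTrans.mapHomologicalComplex U (ComplexShape.up ℕ)).app I.cocomplex
  let θ := (Φ.mapHomologicalComplex (ComplexShape.up ℕ)).map (EtBCQ.theta g f h e c.w I J χ₀)
  let a₂ := (NatTrans.mapHomologicalComplex P₂ (ComplexShape.up ℕ)).app J.cocomplex
  haveI : IsIso a₁ := by
    haveI : ∀ i, IsIso (a₁.f i) := fun i => inferInstanceAs (IsIso (P₁.app (I.cocomplex.X i)))
    exact HomologicalComplex.Hom.isIso_of_components _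
  haveI : IsIso u₁ := by
    haveI : ∀ i, IsIso (u₁.f i) := fun i => inferInstanceAs (IsIso (U.app (I.cocomplex.X i)))
    exact HomologicalComplex.Hom.isIso_of_components _
  haveI : IsIso a₂ := by
    haveI : ∀ i, IsIso (a₂.f i) := fun i => inferInstanceAs (IsIso (P₂.app (J.cocomplex.X i)))
    exact HomologicalComplex.Hom.isIso_of_components _
  have key : a₁ ≫ secCx m χ = u₁ ≫ θ ≫ a₂ := by
    refine HomologicalComplex.hom_ext _ _ fun i => ?_
    have hsq := square_of_surj f g h e c.w sX sS σ hcomp aS bS cS.w bY bX wY aX wa m w hm (I.cocomplex.X i)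
      (exists_secAt (f.base x) RS ((EtCoh.push g).obj (I.cocomplex.X i)))
    simp only [HomologicalComplex.comp_f]
    exact secCx_square f g h e c.w sX sS σ hcomp aS bS cS.w bY bX wY aX wa m w (χ₀.f i) hsq
  haveI : Φ.Additive := inferInstance
  let eΦ : EtCoh.stalk (Hens2.geomPt X x RX) ≅ Φ := EtContLib.stalkIsoSections X x RX
  haveI : PreservesFiniteLimits Φ := preservesFiniteLimits_of_natIso eΦ
  haveI : PreservesFiniteColimits Φ := preservesFiniteColimits_of_natIso eΦ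
  rw [← quasiIsoAt_iff_comp_left a₁ (secCx m χ) q, key, quasiIsoAt_iff_comp_left u₁ (θ ≫ a₂) q,
    quasiIsoAt_iff_comp_right θ a₂ q, EtBCQ.quasiIsoAt_map_iff]
  exact ConcreteCategory.isIso_iff_bijective _

end Local

section Global

variable {X S Y T : Scheme.{u}} (f : X ⟶ S) (g : T ⟶ S) [QuasiCompact g] [QuasiSeparated g] (h : Y ⟶ X) (e : Y ⟶ T)
  (c : IsPullback e h g f) [PreservesFiniteLimits (EtCoh.pull e)] (F : EtCoh.Ab T) (q : ℕ)

/-- Base change is an isomorphism exactly when it is on strict localizations. -/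
theorem isIso_bcQ_iff_strict :
    (∀ (x : X) (RS : Type u) [CommRing RS] [IsLocalRing RS] [Algebra (S.presheaf.stalk (f.base x)) RS]
      [IsLocalHom (algebraMap (S.presheaf.stalk (f.base x)) RS)] [Hensel.IsStrictHenselization (S.presheaf.stalk (f.base x)) RS]
      (RX : Type u) [CommRing RX] [IsLocalRing RX] [Algebra (X.presheaf.stalk x) RX]
      [IsLocalHom (algebraMap (X.presheaf.stalk x) RX)] [Hensel.IsStrictHenselization (X.presheaf.stalk x) RX]
      (ψ : RS →+* RX) [IsLocalHom ψ],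
      ψ.comp (algebraMap (S.presheaf.stalk (f.base x)) RS) = (algebraMap (X.presheaf.stalk x) RX).comp (f.stalkMap x).hom →
      ∀ (PS PX : Scheme.{u}) (aS : PS ⟶ T) (bS : PS ⟶ Spec (CommRingCat.of RS))
        (_ : IsPullback aS bS g (Hens2.specOf S (f.base x) RS))
        (aX : PX ⟶ T) (bX : PX ⟶ Spec (CommRingCat.of RX))
        (_ : IsPullback aX bX g (Hens2.specOf X x RX ≫ f))
        (m : PX ⟶ PS) (w : m ≫ aS = aX), m ≫ bS = bX ≫ Spec.map (CommRingCat.ofHom ψ) →
        ∀ [PreservesFiniteLimits (EtCoh.pull m)], Function.Bijective (EtCore.HpullVia m aS aX w F q)) ↔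
    IsIso (EtBC.bcQ g f h e c.w q F) := by
  haveI := EtFound.pull_preservesFiniteLimits f
  let I := injectiveResolution F
  let J := injectiveResolution ((EtCoh.pull e).obj F)
  obtain ⟨χ₀, hχ₀⟩ := EtBCQ.exists_psi e I J
  rw [EtBCQ.isIso_bcQ_iff g f h e c.w I J χ₀ hχ₀ q, quasiIsoAt_iff_isIso_homologyMap]
  constructor
  · intro H
    refine isIso_of_gsec_strict _ fun x => ?_
    let RX := Hensel.StrictHenz (X.presheaf.stalk x)
    let RS := Hensel.StrictHenz (S.presheaf.stalk (f.base x))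
    haveI : IsSepClosed (IsLocalRing.ResidueField RX) :=
      (Hensel.isSepClosure_residueField_strictHenz (X.presheaf.stalk x)).sep_closed
    obtain ⟨ψ, hloc, hψ⟩ := EtPBC0.exists_strictHenz_hom (f.stalkMap x).hom RS RX
    haveI := hloc
    let sX := Hens2.specOf X x RX
    let sS := Hens2.specOf S (f.base x) RS
    have w₀ : pullback.fst g (sX ≫ f) ≫ g = (pullback.snd g (sX ≫ f) ≫ Spec.map (CommRingCat.ofHom ψ)) ≫ sS := by
      refine pullback.condition.trans ((whisker_eq _ (EtPBC0.specOf_comp f x RS RX ψ hψ)).trans (Category.assoc _ _ _).symm)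
    let m : pullback g (sX ≫ f) ⟶ pullback g sS :=
      pullback.lift (pullback.fst g (sX ≫ f)) (pullback.snd g (sX ≫ f) ≫ Spec.map (CommRingCat.ofHom ψ)) w₀
    have w : m ≫ pullback.fst g sS = pullback.fst g (sX ≫ f) := pullback.lift_fst _ _ _
    have hm : m ≫ pullback.snd g sS = pullback.snd g (sX ≫ f) ≫ Spec.map (CommRingCat.ofHom ψ) := pullback.lift_snd _ _ _
    haveI := EtFound.pull_preservesFiniteLimits m
    exact (bijective_HpullVia_iff f g h e c I J χ₀ hχ₀ x RS RX ψ hψ _ _ (IsPullback.of_hasPullback g sS) _ _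
      (IsPullback.of_hasPullback g (sX ≫ f)) m w hm q).1
      (H x RS RX ψ hψ _ _ _ _ (IsPullback.of_hasPullback g sS) _ _ (IsPullback.of_hasPullback g (sX ≫ f)) m w hm)
  · intro _ x RS _ _ _ _ _ RX _ _ _ _ _ ψ _ hψ PS PX aS bS cS aX bX cX m w hm _
    exact (bijective_HpullVia_iff f g h e c I J χ₀ hχ₀ x RS RX ψ hψ aS bS cS aX bX cX m w hm q).2
      (ConcreteCategory.bijective_of_isIso _)

end Global

end Groth.Agent.EtStrictBC
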