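import Groth.Agent.EtMVLib.ExtTools
import Groth.Prelude.Def_RDer

/-!
# Ext classes of cocycles of a resolution, and exact functors
-/

set_option autoImplicit false
set_option linter.style.haveILetI false

universe w w' v v' u u'

open CategoryTheory CategoryTheory.Limits CategoryTheory.Abelian

namespace Groth.Agent.EtStrictBC

set_option backward.isDefEq.respectTransparency false

variable {C : Type u} [Category.{v} C] [Abelian C] [HasExt.{w} C]

section Cls

variable {G : C} {K : CochainComplex C ℕ} (ι : (CochainComplex.single₀ C).obj G ⟶ K) [QuasiIso ι]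

/-- The cocycles. -/
noncomputable abbrev Zc (K : CochainComplex C ℕ) (n : ℕ) : C := kernel (K.d n (n + 1))

/-- The map to the next cocycles. -/
noncomputable abbrev toZ (K : CochainComplex C ℕ) (n : ℕ) : K.X n ⟶ Zc K (n + 1) :=
  kernel.lift _ (K.d n (n + 1)) (K.d_comp_d _ _ _)

theorem ι_toZ (K : CochainComplex C ℕ) (n : ℕ) : kernel.ι (K.d n (n + 1)) ≫ toZ K n = 0 := by
  rw [← cancel_mono (kernel.ι (K.d (n + 1) (n + 1 + 1))), Category.assoc, kernel.lift_ι, kernel.condition, zero_comp]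

/-- The elementary sequences of a resolution. -/
noncomputable def cySeq (K : CochainComplex C ℕ) (n : ℕ) : ShortComplex C :=
  ShortComplex.mk (kernel.ι (K.d n (n + 1))) (toZ K n) (ι_toZ K n)

include ι in
theorem cySeq_shortExact (n : ℕ) : (cySeq K n).ShortExact := by
  haveI : Epi (toZ K n) := (RDer.res_exact_succ K ι n).epi_kernelLift
  exact
    { exact := ShortComplex.exact_of_f_is_kernel _ (KernelFork.IsLimit.ofι _ _
        (fun {W} k hk => kernel.lift (K.d n (n + 1)) k (by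
          rw [← kernel.lift_ι (K.d (n + 1) (n + 1 + 1)) (K.d n (n + 1)) (K.d_comp_d _ _ _), ← Category.assoc]
          exact (congrArg (· ≫ _) hk).trans zero_comp))
        (fun k hk => kernel.lift_ι _ _ _)
        (fun k hk j hj => (cancel_mono (kernel.ι (K.d n (n + 1)))).1 (hj.trans (kernel.lift_ι _ _ _).symm)))
      mono_f := (inferInstance : Mono (kernel.ι (K.d n (n + 1))))
      epi_g := ‹Epi (toZ K n)› }

/-- The augmentation as cocycles in degree zero. -/
noncomputable def augZ : G ⟶ Zc K 0 :=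
  kernel.lift _ (ι.f 0) (RDer.res_ι_d K ι)

instance isIso_augZ : IsIso (augZ ι) := by
  haveI : Mono (ι.f 0) := RDer.res_mono K ι
  haveI : Mono (augZ ι) := mono_of_mono_fac (kernel.lift_ι _ _ _)
  haveI : Epi (augZ ι) := (RDer.res_exact₀ K ι).epi_kernelLift
  exact isIso_of_mono_of_epi _

/-- The classes of the cocycles. -/
noncomputable def eCls : (n : ℕ) → Ext (Zc K n) G n
  | 0 => Ext.mk₀ (inv (augZ ι))
  | n + 1 => (cySeq_shortExact ι n).extClass.comp (eCls n) (add_comm 1 n)

/-- The class of a cocycle with values in `P`. -/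
noncomputable def cls {P : C} (n : ℕ) (z : P ⟶ Zc K n) : Ext P G n :=
  (Ext.mk₀ z).comp (eCls ι n) (zero_add n)

theorem cls_sub {P : C} (n : ℕ) (z z' : P ⟶ Zc K n) : cls ι n (z - z') = cls ι n z - cls ι n z' := by
  rw [eq_sub_iff_add_eq, cls, cls, cls, ← Ext.add_comp, ← Ext.mk₀_add, sub_add_cancel]

variable {P : C} (hac : ∀ (m a : ℕ), ∀ x : Ext P (K.X m) (a + 1), x = 0)

include hac in
theorem comp_eCls_bijective (m a b : ℕ) (hb : a + 1 + m = b) :
    Function.Bijective fun y : Ext P (Zc K m) (a + 1) => y.comp (eCls ι m) hb := by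
  induction m generalizing a b with
  | zero =>
    obtain rfl : a + 1 = b := hb
    refine Function.bijective_iff_has_inverse.2 ⟨fun y => y.comp (Ext.mk₀ (augZ ι)) (add_zero _), fun y => ?_, fun y => ?_⟩
    · simp only [eCls]
      rw [Ext.comp_assoc_of_third_deg_zero, Ext.mk₀_comp_mk₀, IsIso.inv_hom_id, Ext.comp_mk₀_id]
    · simp only [eCls]
      rw [Ext.comp_assoc_of_third_deg_zero, Ext.mk₀_comp_mk₀, IsIso.hom_inv_id, Ext.comp_mk₀_id]
  | succ m ih =>
    have hS := cySeq_shortExact ι m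
    have key : ∀ y : Ext P (Zc K (m + 1)) (a + 1), y.comp (eCls ι (m + 1)) hb =
        (y.comp hS.extClass rfl).comp (eCls ι m) (by omega) := fun y => by
      rw [Ext.comp_assoc y hS.extClass (eCls ι m) rfl (add_comm 1 m) (by omega)]
      rfl
    simp only [key]
    refine (ih (a + 1) b (by omega)).comp ⟨(injective_iff_map_eq_zero (hS.extClass.postcomp P rfl)).2 fun y hy => ?_,
      fun y => ?_⟩
    · obtain ⟨y', rfl⟩ := Ext.covariant_sequence_exact₃ P hS y rfl hy
      rw [hac m a y', Ext.zero_comp]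
    · exact Ext.covariant_sequence_exact₁ P hS y (hac m (a + 1) _) rfl

include hac in
theorem cls_surjective (n : ℕ) (x : Ext P G n) : ∃ z : P ⟶ Zc K n, cls ι n z = x := by
  cases n with
  | zero =>
    obtain ⟨z, rfl⟩ := (Ext.mk₀_bijective _ _).2 x
    exact ⟨z ≫ augZ ι, by simp [cls, eCls]⟩
  | succ m =>
    have hS := cySeq_shortExact ι m
    obtain ⟨y, rfl⟩ := (comp_eCls_bijective ι hac m 0 (m + 1) (by omega)).2 x
    obtain ⟨y₀, rfl⟩ := Ext.covariant_sequence_exact₁ P hS y (hac m 0 _) rfl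
    obtain ⟨z, rfl⟩ := (Ext.mk₀_bijective _ _).2 y₀
    refine ⟨z, ?_⟩
    exact (Ext.comp_assoc (Ext.mk₀ z) hS.extClass (eCls ι m) (zero_add 1) (add_comm 1 m) (by omega)).symm

include hac in
theorem cls_eq_zero_iff (n : ℕ) (z : P ⟶ Zc K n) :
    cls ι n z = 0 ↔ ∃ y : P ⟶ K.X ((ComplexShape.up ℕ).prev n),
      y ≫ K.d ((ComplexShape.up ℕ).prev n) n = z ≫ kernel.ι (K.d n (n + 1)) := by
  cases n with
  | zero =>
    rw [CochainComplex.prev_nat_zero]
    constructor
    · intro h
      refine ⟨0, ?_⟩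
      have hz : z = 0 := by
        have : z ≫ inv (augZ ι) = 0 := (Ext.mk₀_bijective P G).1 (by
          rw [Ext.mk₀_zero, ← h]
          exact (Ext.mk₀_comp_mk₀ _ _).symm)
        rw [← cancel_mono (inv (augZ ι)), this, zero_comp]
      rw [hz, zero_comp, zero_comp]
    · rintro ⟨y, hy⟩
      rw [K.shape 0 0 (by simp), comp_zero] at hy
      have hz : z = 0 := by rw [← cancel_mono (kernel.ι (K.d 0 (0 + 1))), ← hy, zero_comp]
      rw [hz, cls, Ext.mk₀_zero, Ext.zero_comp]
  | succ m =>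
    rw [CochainComplex.prev_nat_succ]
    have hS := cySeq_shortExact ι m
    have key : cls ι (m + 1) z = ((Ext.mk₀ z).comp hS.extClass (zero_add 1)).comp (eCls ι m) (add_comm 1 m) :=
      (Ext.comp_assoc (Ext.mk₀ z) hS.extClass (eCls ι m) (zero_add 1) (add_comm 1 m) (by omega)).symm
    constructor
    · intro h
      have h0 : (Ext.mk₀ z).comp hS.extClass (zero_add 1) = 0 :=
        (comp_eCls_bijective ι hac m 0 (m + 1) (by omega)).1 (by
          simp only [Ext.zero_comp]
          exact key.symm.trans h)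
      obtain ⟨y', hy'⟩ := Ext.covariant_sequence_exact₃ P hS (Ext.mk₀ z) (zero_add 1) h0
      obtain ⟨y, rfl⟩ := (Ext.mk₀_bijective _ _).2 y'
      rw [Ext.mk₀_comp_mk₀] at hy'
      refine ⟨y, ?_⟩
      rw [← (Ext.mk₀_bijective _ _).1 hy']
      exact ((Category.assoc _ _ _).trans (congrArg (y ≫ ·) (kernel.lift_ι _ _ _))).symm
    · rintro ⟨y, hy⟩
      have hz : z = y ≫ toZ K m := by
        rw [← cancel_mono (kernel.ι (K.d (m + 1) (m + 1 + 1))), Category.assoc, kernel.lift_ι, hy]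
      have h0 : (Ext.mk₀ z).comp hS.extClass (zero_add 1) = 0 := by
        rw [hz, ← Ext.mk₀_comp_mk₀, Ext.comp_assoc_of_second_deg_zero]
        erw [hS.comp_extClass]
        exact Ext.comp_zero _ _ _ _ _
      rw [key, h0, Ext.zero_comp]

end Cls

section Map

variable {D : Type u'} [Category.{v'} D] [Abelian D] [HasExt.{w'} D] (L : C ⥤ D) [L.Additive] [PreservesFiniteLimits L]
  [PreservesFiniteColimits L]
  {G : C} {K : CochainComplex C ℕ} (ι : (CochainComplex.single₀ C).obj G ⟶ K) [QuasiIso ι]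
  {G' : D} {M : CochainComplex D ℕ} (ι' : (CochainComplex.single₀ D).obj G' ⟶ M) [QuasiIso ι']
  (α : L.obj G ⟶ G') (χ : (L.mapHomologicalComplex (ComplexShape.up ℕ)).obj K ⟶ M)

/-- The induced map on cocycles. -/
noncomputable def zMap (n : ℕ) : L.obj (Zc K n) ⟶ Zc M n :=
  kernel.lift _ (L.map (kernel.ι (K.d n (n + 1))) ≫ χ.f n) (by
    rw [Category.assoc, χ.comm]
    show L.map (kernel.ι _) ≫ L.map (K.d n (n + 1)) ≫ _ = 0
    rw [← Category.assoc, ← L.map_comp, kernel.condition, L.map_zero, zero_comp])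

theorem zMap_ι (n : ℕ) : zMap L χ n ≫ kernel.ι (M.d n (n + 1)) = L.map (kernel.ι (K.d n (n + 1))) ≫ χ.f n :=
  kernel.lift_ι _ _ _

theorem map_toZ_zMap (n : ℕ) : L.map (toZ K n) ≫ zMap L χ (n + 1) = χ.f n ≫ toZ M n := by
  rw [← cancel_mono (kernel.ι (M.d (n + 1) (n + 1 + 1))), Category.assoc, Category.assoc, zMap_ι, kernel.lift_ι,
    ← Category.assoc, ← L.map_comp, kernel.lift_ι]
  exact (χ.comm n (n + 1)).symm

variable (hα : α ≫ ι'.f 0 = L.map (ι.f 0) ≫ χ.f 0)

include hα in
theorem eCls_map (n : ℕ) :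
    ((eCls ι n).mapExactFunctor L).comp (Ext.mk₀ α) (add_zero n) =
      (Ext.mk₀ (zMap L χ n)).comp (eCls ι' n) (zero_add n) := by
  induction n with
  | zero =>
    simp only [eCls, Ext.mapExactFunctor_mk₀, Ext.mk₀_comp_mk₀]
    refine congrArg Ext.mk₀ ?_
    have h : L.map (augZ ι) ≫ zMap L χ 0 = α ≫ augZ ι' := by
      rw [← cancel_mono (kernel.ι (M.d 0 (0 + 1))), Category.assoc, Category.assoc, zMap_ι, ← Category.assoc,
        ← L.map_comp]
      show L.map (kernel.lift _ (ι.f 0) _ ≫ kernel.ι _) ≫ _ = α ≫ kernel.lift _ (ι'.f 0) _ ≫ kernel.ι _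
      rw [kernel.lift_ι, kernel.lift_ι]
      exact hα.symm
    rw [L.map_inv, IsIso.inv_comp_eq, ← Category.assoc, IsIso.eq_comp_inv, h]
  | succ n ih =>
    let φ : (cySeq K n).map L ⟶ cySeq M n := ShortComplex.homMk (zMap L χ n) (χ.f n) (zMap L χ (n + 1))
      (zMap_ι L χ n) (map_toZ_zMap L χ n).symm
    have hn := ShortComplex.ShortExact.extClass_naturality ((cySeq_shortExact ι n).map_of_exact L)
      (cySeq_shortExact ι' n) φ
    show (((cySeq_shortExact ι n).extClass.comp (eCls ι n) (add_comm 1 n)).mapExactFunctor L).comp (Ext.mk₀ α) _ =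
      (Ext.mk₀ (zMap L χ (n + 1))).comp ((cySeq_shortExact ι' n).extClass.comp (eCls ι' n) (add_comm 1 n)) _
    rw [Ext.mapExactFunctor_comp, Ext.mapExactFunctor_extClass, Ext.comp_assoc_of_third_deg_zero, ih,
      ← Ext.comp_assoc_of_second_deg_zero]
    erw [hn]
    exact Ext.comp_assoc _ _ _ (zero_add 1) (add_comm 1 n) (by omega)

variable {P : C} {P' : D} (u₀ : P' ⟶ L.obj P)

include hα in
theorem cls_map (n : ℕ) (z : P ⟶ Zc K n) :
    ((Ext.mk₀ u₀).comp ((cls ι n z).mapExactFunctor L) (zero_add n)).comp (Ext.mk₀ α) (add_zero n) =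
      cls ι' n (u₀ ≫ L.map z ≫ zMap L χ n) := by
  rw [cls, cls, Ext.mapExactFunctor_comp, Ext.mapExactFunctor_mk₀, ← Ext.mk₀_comp_mk₀, ← Ext.mk₀_comp_mk₀,
    Ext.comp_assoc_of_third_deg_zero, Ext.comp_assoc_of_third_deg_zero, eCls_map L ι ι' α χ hα n,
    Ext.comp_assoc_of_second_deg_zero, Ext.comp_assoc_of_second_deg_zero]

end Map

end Groth.Agent.EtStrictBC
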