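import Groth.Agent.EtBCQ.Sq
import Groth.Agent.EtContLib.StalkPush
import Groth.Agent.EtFound.PullGerm
import Groth.Agent.EtPBC0.QcPush

/-!
# Sections of inverse images on strict localizations, and base change to them
-/

set_option autoImplicit false
set_option linter.style.haveILetI false

universe u

open CategoryTheory CategoryTheory.Limits AlgebraicGeometry Opposite

namespace Groth.Agent.EtStrictBC

set_option backward.isDefEq.respectTransparency false
set_option backward.isDefEq.respectTransparency.types false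

section Res

variable {P Q Z : Scheme.{u}} (j : P ⟶ Q) (a : Q ⟶ Z) (a' : P ⟶ Z) (w : j ≫ a = a')

/-- Restriction of sections of an inverse image. -/
noncomputable def resSec (A : EtCoh.Ab Z) :
    (EtCore.gsec Q).obj ((EtCoh.pull a).obj A) ⟶ (EtCore.gsec P).obj ((EtCoh.pull a').obj A) :=
  (EtMVLib.pullSec j).app ((EtCoh.pull a).obj A) ≫ (EtCore.gsec P).map (EtContLib.pullVia j a a' w A).hom

theorem resSec_secAt (A : EtCoh.Ab Z) (V : Z.Etale) (t : Q ⟶ V.left) (wt : t ≫ V.hom = a)
    (t' : P ⟶ V.left) (e : j ≫ t = t') (wt' : t' ≫ V.hom = a') (s : A.obj.obj (op V)) :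
    resSec j a a' w A (EtContLib.secAt a V t wt A s) = EtContLib.secAt a' V t' wt' A s := by
  subst e
  exact EtContLib.pullVia_pullSec_secAt j a a' w V t wt wt' A s

theorem resSec_naturality {A B : EtCoh.Ab Z} (φ : A ⟶ B) :
    (EtCore.gsec Q).map ((EtCoh.pull a).map φ) ≫ resSec j a a' w B =
      resSec j a a' w A ≫ (EtCore.gsec P).map ((EtCoh.pull a').map φ) := by
  have h₁ := (EtMVLib.pullSec j).naturality ((EtCoh.pull a).map φ)
  have h₂ : (EtCoh.pull j).map ((EtCoh.pull a).map φ) ≫ (EtContLib.pullVia j a a' w B).hom =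
      (EtContLib.pullVia j a a' w A).hom ≫ (EtCoh.pull a').map φ :=
    ((EtCore.pullComp j a).symm ≪≫ EtCore.pullCongr w).hom.naturality φ
  unfold resSec
  rw [← Category.assoc, h₁, Category.assoc, Category.assoc]
  refine congrArg (_ ≫ ·) ?_
  exact ((EtCore.gsec P).map_comp _ _).symm.trans ((congrArg (EtCore.gsec P).map h₂).trans
    ((EtCore.gsec P).map_comp _ _))

end Res

section Push

variable {T S B P : Scheme.{u}} (g : T ⟶ S) (hS : B ⟶ S) (b : P ⟶ B) (a : P ⟶ T) (w : a ≫ g = b ≫ hS)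

/-- Sections of a direct image restricted to the part over a base. -/
noncomputable def pushSec (A : EtCoh.Ab T) :
    (EtCore.gsec B).obj ((EtCoh.pull hS).obj ((EtCoh.push g).obj A)) ⟶ (EtCore.gsec P).obj ((EtCoh.pull a).obj A) :=
  (EtCore.gsec B).map (EtCoh.baseChange0 g hS b a w A) ≫ (EtCore.pushGsecIso b).hom.app ((EtCoh.pull a).obj A)

/-- The lift of a point of the base to the part over it. -/
noncomputable def pushLift (V : S.Etale) (t : B ⟶ V.left) (wt : t ≫ V.hom = hS) :
    P ⟶ ((EtCoh.bc g).obj V).left :=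
  pullback.lift (b ≫ t) a ((Category.assoc _ _ _).trans ((whisker_eq b wt).trans w.symm))

theorem pushLift_hom (V : S.Etale) (t : B ⟶ V.left) (wt : t ≫ V.hom = hS) :
    pushLift g hS b a w V t wt ≫ ((EtCoh.bc g).obj V).hom = a :=
  pullback.lift_snd _ _ _

theorem pushLift_fst (V : S.Etale) (t : B ⟶ V.left) (wt : t ≫ V.hom = hS) :
    pushLift g hS b a w V t wt ≫ pullback.fst V.hom g = b ≫ t :=
  pullback.lift_fst _ _ _

theorem pushSec_secAt (A : EtCoh.Ab T) (V : S.Etale) (t : B ⟶ V.left) (wt : t ≫ V.hom = hS)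
    (s : A.obj.obj (op ((EtCoh.bc g).obj V))) :
    pushSec g hS b a w A (EtContLib.secAt hS V t wt ((EtCoh.push g).obj A) s) =
      EtContLib.secAt a ((EtCoh.bc g).obj V) (pushLift g hS b a w V t wt) (pushLift_hom g hS b a w V t wt) A s := by
  let M := (EtCoh.pull a).obj A
  have hev : ∀ {U U' : Scheme.{u}} (q : U' ⟶ U) (G : EtCoh.Ab U) (W : U.Etale) (z : G.obj.obj (op W)),
      EtContLib.ev q (𝟙 _) W z = EtBCQ.upA q G W z := fun q G W z => by
    simp only [EtContLib.ev, Adjunction.homEquiv_id]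
    rfl
  rw [EtContLib.secAt_apply, EtContLib.secAt_apply, hev, hev]
  show M.obj.map (EtCore.bcTopIso b).inv.op
      ((EtCoh.baseChange0 g hS b a w A).hom.app (op (EtCoh.top B))
        (((EtCoh.pull hS).obj ((EtCoh.push g).obj A)).obj.map (EtContLib.secMap hS V t wt).op
          (EtBCQ.upA hS ((EtCoh.push g).obj A) V s))) = _
  rw [NatTrans.naturality_apply (EtCoh.baseChange0 g hS b a w A).hom, EtBCQ.baseChange0_upA]
  show M.obj.map (EtCore.bcTopIso b).inv.op (M.obj.map ((EtCoh.bc b).map (EtContLib.secMap hS V t wt)).op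
    (M.obj.map (EtFound.bcSquare w V).op _)) = _
  rw [← Functor.map_comp_apply, ← Functor.map_comp_apply, ← op_comp, ← op_comp]
  refine congrArg (fun m => M.obj.map (Quiver.Hom.op m) (EtBCQ.upA a A ((EtCoh.bc g).obj V) s)) ?_
  refine EtBCQ.bc2_hom_ext ?_
  simp only [EtBCQ.comp_left', Category.assoc]
  rw [EtBCQ.bcSquare_fst' w V, reassoc_of% (EtBCQ.bc_map_fst b (EtContLib.secMap hS V t wt)),
    EtContLib.secMap_fst hS V t wt,
    reassoc_of% (EtContLib.secMap_fst a ((EtCoh.bc g).obj V) (pushLift g hS b a w V t wt)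
      (pushLift_hom g hS b a w V t wt)), pushLift_fst]
  have eL : (EtCore.bcTopIso b).inv.left ≫ pullback.fst (EtCoh.top B).hom b = b := by
    have h3 : (EtCore.bcTopIso b).inv.left ≫ pullback.snd (EtCoh.top B).hom b = 𝟙 P :=
      MorphismProperty.Over.w _
    have hc : pullback.fst (EtCoh.top B).hom b = pullback.snd (EtCoh.top B).hom b ≫ b :=
      (Category.comp_id _).symm.trans (pullback.condition (f := (EtCoh.top B).hom) (g := b))
    rw [hc]
    exact ((Category.assoc _ _ _).symm.trans (eq_whisker h3 _)).trans (Category.id_comp _)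
  exact (Category.assoc _ _ _).symm.trans (eq_whisker eL t)

theorem pushSec_naturality {A A' : EtCoh.Ab T} (φ : A ⟶ A') :
    (EtCore.gsec B).map ((EtCoh.pull hS).map ((EtCoh.push g).map φ)) ≫ pushSec g hS b a w A' =
      pushSec g hS b a w A ≫ (EtCore.gsec P).map ((EtCoh.pull a).map φ) := by
  unfold pushSec
  rw [← Category.assoc, ← Functor.map_comp, EtBCQ.baseChange0_naturality, Functor.map_comp, Category.assoc,
    Category.assoc]
  exact congrArg (_ ≫ ·) ((EtCore.pushGsecIso b).hom.naturality ((EtCoh.pull a).map φ))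

end Push

section Up

variable {B X S : Scheme.{u}} (k : B ⟶ X) (f : X ⟶ S) (h : B ⟶ S) (w : k ≫ f = h)

theorem pullVia_secAt_up (A : EtCoh.Ab S) (V : S.Etale) (t : B ⟶ ((EtCoh.bc f).obj V).left)
    (wt : t ≫ ((EtCoh.bc f).obj V).hom = k) (t' : B ⟶ V.left) (e : t ≫ pullback.fst V.hom f = t')
    (wt' : t' ≫ V.hom = h) (s : A.obj.obj (op V)) :
    (EtCore.gsec B).map (EtContLib.pullVia k f h w A).hom
        (EtContLib.secAt k ((EtCoh.bc f).obj V) t wt ((EtCoh.pull f).obj A) (EtBCQ.upA f A V s)) =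
      EtContLib.secAt h V t' wt' A s := by
  let M := (EtCoh.pull h).obj A
  let α := (EtContLib.pullVia k f h w A).hom
  have hup : EtBCQ.upA f A V s = EtContLib.ev f (𝟙 _) V s := by
    simp only [EtContLib.ev, Adjunction.homEquiv_id]
    rfl
  rw [EtContLib.secAt_apply, EtContLib.secAt_apply, hup]
  have h₁ : (EtCore.gsec B).map α (((EtCoh.pull k).obj ((EtCoh.pull f).obj A)).obj.map
      (EtContLib.secMap k ((EtCoh.bc f).obj V) t wt).op
        (EtContLib.ev k (𝟙 _) ((EtCoh.bc f).obj V) (EtContLib.ev f (𝟙 _) V s))) =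
      M.obj.map (EtContLib.secMap k ((EtCoh.bc f).obj V) t wt).op
        (EtContLib.ev k α ((EtCoh.bc f).obj V) (EtContLib.ev f (𝟙 _) V s)) := by
    refine (NatTrans.naturality_apply α.hom (EtContLib.secMap k ((EtCoh.bc f).obj V) t wt).op _).trans ?_
    rw [← EtContLib.ev_comp, Category.id_comp]
  refine h₁.trans ?_
  have h₂ : EtContLib.ev h (𝟙 _) V s = M.obj.map (EtContLib.bcMap k f h w V).op
      (EtContLib.ev k α ((EtCoh.bc f).obj V) (EtContLib.ev f (𝟙 _) V s)) :=
    (congrArg (fun m => EtContLib.ev h m V s) (EtContLib.comp2_id_pullVia k f h w A)).symm.trans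
      (EtContLib.ev_comp2 k f h w _ _ V s)
  rw [h₂, ← Functor.map_comp_apply, ← op_comp]
  refine congrArg (fun m => M.obj.map (Quiver.Hom.op m)
    (EtContLib.ev k α ((EtCoh.bc f).obj V) (EtContLib.ev f (𝟙 _) V s))) ?_
  refine EtContLib.hom_bc_ext k f _ _ ?_
  refine Eq.trans ?_ (((Category.assoc _ _ _).trans (whisker_eq _ (EtContLib.bcMap_fst k f h w V))).trans
    (EtContLib.secMap_fst h V t' wt')).symm
  exact ((Category.assoc _ _ _).symm.trans (eq_whisker (EtContLib.secMap_fst k ((EtCoh.bc f).obj V) t wt) _)).trans e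

end Up

section Strict

variable {X : Scheme.{u}}

/-- Every section on a strict localization comes from an etale neighbourhood. -/
theorem exists_secAt (x : X) (R : Type u) [CommRing R] [IsLocalRing R] [Algebra (X.presheaf.stalk x) R]
    [IsLocalHom (algebraMap (X.presheaf.stalk x) R)] [Hensel.IsStrictHenselization (X.presheaf.stalk x) R]
    (A : EtCoh.Ab X) (ξ : (EtCore.gsec (Spec (CommRingCat.of R))).obj ((EtCoh.pull (Hens2.specOf X x R)).obj A)) :
    ∃ (V : X.Etale) (t : Spec (CommRingCat.of R) ⟶ V.left) (w : t ≫ V.hom = Hens2.specOf X x R)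
      (s : A.obj.obj (op V)), EtContLib.secAt (Hens2.specOf X x R) V t w A s = ξ := by
  obtain ⟨ι, _, _, _, E, π, ⟨hc⟩, hA, hwh⟩ := EtContLib.exists_strict_limit X x R
  have haff : ∀ ⦃i j : ιᵒᵖ⦄ (m : i ⟶ j), IsAffineHom ((EtContLib.stages E).map m) := fun i j m =>
    haveI : IsAffine ((EtContLib.stages E).obj i) := hA i
    haveI : IsAffine ((EtContLib.stages E).obj j) := hA j
    isAffineHom_of_isAffine _
  have hqc : ∀ i, CompactSpace ↥((EtContLib.stages E).obj i) := fun i =>
    haveI : IsAffine ((EtContLib.stages E).obj i) := hA i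
    inferInstance
  have hqs : ∀ i, QuasiSeparatedSpace ↥((EtContLib.stages E).obj i) := fun i =>
    haveI : IsAffine ((EtContLib.stages E).obj i) := hA i
    inferInstance
  obtain ⟨i, s, hs⟩ := EtContLib.limSec_surj E (Cone.mk (Spec (CommRingCat.of R)) π) (Hens2.specOf X x R)
    (fun i => hwh (op i)) A haff hqc hqs hc ξ
  exact ⟨E.obj (op i), π.app (op i), hwh (op i), s, hs⟩

variable {R : Type u} [CommRing R] [HenselianLocalRing R] [IsSepClosed (IsLocalRing.ResidueField R)]
  (hR : Spec (CommRingCat.of R) ⟶ X)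

/-- Global sections over a strictly local scheme as germs. -/
noncomputable def stalkSec (A : EtCoh.Ab X) :
    (EtCore.gsec (Spec (CommRingCat.of R))).obj ((EtCoh.pull hR).obj A) ⟶
      (Scheme.pointSmallEtale (EtFound.cpt R ≫ hR)).sheafFiber.obj A :=
  (Scheme.pointSmallEtale (EtFound.cpt R)).toPresheafFiber _ (EtFound.cptTop R) ((EtCoh.pull hR).obj A).obj ≫
    (EtFound.sheafFiberPullIso (A := AddCommGrpCat.{u + 1}) hR (EtFound.cpt R)).hom.app A

theorem stalkSec_bijective (A : EtCoh.Ab X) : Function.Bijective (stalkSec hR A) := by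
  have h₁ : Function.Bijective ((EtFound.sheafFiberPullIso (A := AddCommGrpCat.{u + 1}) hR (EtFound.cpt R)).hom.app A) :=
    ConcreteCategory.bijective_of_isIso _
  exact h₁.comp (EtFound.toPresheafFiber_top_bijective R ((EtCoh.pull hR).obj A).obj)

theorem stalkSec_secAt (A : EtCoh.Ab X) (V : X.Etale) (t : Spec (CommRingCat.of R) ⟶ V.left) (wt : t ≫ V.hom = hR)
    (v : (Scheme.pointSmallEtale (EtFound.cpt R ≫ hR)).fiber.obj V)
    (hv : EtFound.cpt R ≫ t = (v.left : Spec (CommRingCat.of (IsLocalRing.ResidueField R)) ⟶ V.left))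
    (s : A.obj.obj (op V)) :
    stalkSec hR A (EtContLib.secAt hR V t wt A s) =
      (Scheme.pointSmallEtale (EtFound.cpt R ≫ hR)).toPresheafFiber V v A.obj s := by
  let G := (EtCoh.pull hR).obj A
  let P := Scheme.pointSmallEtale (EtFound.cpt R)
  let m := EtContLib.secMap hR V t wt
  let v' := P.fiber.map m (EtFound.cptTop R)
  have hv' : EtFound.bcFiberEquiv hR (EtFound.cpt R) V v' = v := by
    apply CategoryTheory.Over.OverMorphism.ext
    show (EtFound.cpt R ≫ m.left) ≫ pullback.fst V.hom hR = _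
    rw [Category.assoc, EtContLib.secMap_fst, hv]
  have hev : EtContLib.ev hR (𝟙 _) V s = ((EtCoh.pullPushAdj hR).unit.app A).hom.app (op V) s := by
    simp only [EtContLib.ev, Adjunction.homEquiv_id]
    rfl
  show (EtFound.sheafFiberPullIso (A := AddCommGrpCat.{u + 1}) hR (EtFound.cpt R)).hom.app A
    (P.toPresheafFiber _ (EtFound.cptTop R) G.obj (G.obj.map m.op (EtContLib.ev hR (𝟙 _) V s))) = _
  rw [P.toPresheafFiber_w_apply m _ G.obj, hev, ← hv']
  have h := ConcreteCategory.congr_hom (EtFound.sheafFiberPullIso_germ hR (EtFound.cpt R) A V v') s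
  rw [ConcreteCategory.comp_apply, ConcreteCategory.comp_apply] at h
  refine (congrArg _ h.symm).trans ?_
  rw [← ConcreteCategory.comp_apply, Iso.inv_hom_id_app]
  rfl

end Strict

section Field

variable {S : Scheme.{u}} (RS RX : Type u) [CommRing RS] [IsLocalRing RS] [CommRing RX] [HenselianLocalRing RX]
  [IsSepClosed (IsLocalRing.ResidueField RX)] (ψ : RS →+* RX) [IsLocalHom ψ]

theorem cpt_specMap : EtFound.cpt RX ≫ Spec.map (CommRingCat.ofHom ψ) =
    Spec.map (CommRingCat.ofHom (IsLocalRing.ResidueField.map ψ)) ≫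
      Spec.map (CommRingCat.ofHom (IsLocalRing.residue RS)) := by
  rw [EtFound.cpt, ← Spec.map_comp, ← Spec.map_comp]
  exact congrArg Spec.map (CommRingCat.hom_ext (RingHom.ext fun a => (IsLocalRing.ResidueField.map_residue ψ a).symm))

variable (s : S) [Algebra (S.presheaf.stalk s) RS] [IsLocalHom (algebraMap (S.presheaf.stalk s) RS)]
  [Hensel.IsStrictHenselization (S.presheaf.stalk s) RS] (h : Spec (CommRingCat.of RX) ⟶ S)
  (w : Spec.map (CommRingCat.ofHom ψ) ≫ Hens2.specOf S s RS = h)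

/-- Sections do not change along a local homomorphism of strictly henselian rings. -/
theorem resSec_bijective (A : EtCoh.Ab S) :
    Function.Bijective (resSec (Spec.map (CommRingCat.ofHom ψ)) (Hens2.specOf S s RS) h w A) := by
  haveI : HenselianLocalRing RS := Hensel.IsStrictHenselization.henselian (R := S.presheaf.stalk s)
  haveI : IsSepClosed (IsLocalRing.ResidueField RS) :=
    (Hensel.IsStrictHenselization.isSepClosure (R := S.presheaf.stalk s) (S := RS)).sep_closed
  let hS := Hens2.specOf S s RS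
  let j := Spec.map (CommRingCat.ofHom ψ)
  let l := Spec.map (CommRingCat.ofHom (IsLocalRing.ResidueField.map ψ))
  have hpt : EtFound.cpt RX ≫ h = l ≫ EtFound.cpt RS ≫ hS := by
    rw [← w, ← Category.assoc, cpt_specMap RS RX ψ, Category.assoc]
  refine ⟨(injective_iff_map_eq_zero _).2 fun ξ hξ => ?_, fun ζ => ?_⟩
  · obtain ⟨V, t, wt, r, rfl⟩ := exists_secAt s RS A ξ
    haveI : Etale V.hom := V.prop
    have wt' : (j ≫ t) ≫ V.hom = h := by rw [Category.assoc, wt, w]
    rw [resSec_secAt j hS h w A V t wt (j ≫ t) rfl wt' r] at hξ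
    let vX : (Scheme.pointSmallEtale (EtFound.cpt RX ≫ h)).fiber.obj V :=
      CategoryTheory.Over.homMk (EtFound.cpt RX ≫ j ≫ t) ((Category.assoc _ _ _).trans (whisker_eq _ wt'))
    let vS : (Scheme.pointSmallEtale (EtFound.cpt RS ≫ hS)).fiber.obj V :=
      CategoryTheory.Over.homMk (EtFound.cpt RS ≫ t) ((Category.assoc _ _ _).trans (whisker_eq _ wt))
    apply (stalkSec_bijective hS A).1
    rw [map_zero, stalkSec_secAt hS A V t wt vS rfl r]
    have hX : (Scheme.pointSmallEtale (EtFound.cpt RX ≫ h)).toPresheafFiber V vX A.obj r =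
        (Scheme.pointSmallEtale (EtFound.cpt RX ≫ h)).toPresheafFiber V vX A.obj 0 := by
      rw [map_zero, ← stalkSec_secAt h A V (j ≫ t) wt' vX rfl r, hξ, map_zero]
    obtain ⟨W, n, v, hv, he⟩ := ((Scheme.pointSmallEtale (EtFound.cpt RX ≫ h)).toPresheafFiber_eq_iff'
      (P := A.obj) V vX r 0).1 hX
    haveI : Etale W.hom := W.prop
    obtain ⟨v₀, ⟨hv₀, hv₀'⟩, -⟩ := EtFound.existsUnique_fac W.hom (EtFound.cpt RS ≫ hS) l
      (v.left : Spec (CommRingCat.of (IsLocalRing.ResidueField RX)) ⟶ W.left)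
      ((CategoryTheory.Over.w v).trans hpt)
    let w₀ : (Scheme.pointSmallEtale (EtFound.cpt RS ≫ hS)).fiber.obj W := CategoryTheory.Over.homMk v₀ hv₀
    have hn : (Scheme.pointSmallEtale (EtFound.cpt RS ≫ hS)).fiber.map n w₀ = vS := by
      apply CategoryTheory.Over.OverMorphism.ext
      show v₀ ≫ n.left = EtFound.cpt RS ≫ t
      refine (EtFound.existsUnique_fac V.hom (EtFound.cpt RS ≫ hS) l (EtFound.cpt RX ≫ j ≫ t)
        ((Category.assoc _ _ _).trans ((whisker_eq _ wt').trans hpt))).unique ⟨?_, ?_⟩ ⟨?_, ?_⟩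
      · rw [Category.assoc, MorphismProperty.Over.w n, hv₀]
      · rw [← Category.assoc, hv₀']
        exact congrArg (fun q => q.left) hv
      · rw [Category.assoc, wt]
      · rw [← Category.assoc, ← cpt_specMap RS RX ψ, Category.assoc]
    rw [← hn, ← (Scheme.pointSmallEtale (EtFound.cpt RS ≫ hS)).toPresheafFiber_w_apply n w₀ A.obj r, he,
      map_zero, map_zero]
  · obtain ⟨V, v, r, hr⟩ :=
      (Scheme.pointSmallEtale (EtFound.cpt RX ≫ h)).toPresheafFiber_jointly_surjective (P := A.obj) (stalkSec h A ζ)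
    haveI : Etale V.hom := V.prop
    obtain ⟨v₀, ⟨hv₀, hv₀'⟩, -⟩ := EtFound.existsUnique_fac V.hom (EtFound.cpt RS ≫ hS) l
      (v.left : Spec (CommRingCat.of (IsLocalRing.ResidueField RX)) ⟶ V.left)
      ((CategoryTheory.Over.w v).trans hpt)
    obtain ⟨t, ⟨ht₁, ht₂⟩, -⟩ := EtPBC0.existsUnique_lift RS hS V v₀ hv₀
    refine ⟨EtContLib.secAt hS V t ht₁ A r, (stalkSec_bijective h A).1 ?_⟩
    have wt' : (j ≫ t) ≫ V.hom = h := by rw [Category.assoc, ht₁, w]
    rw [resSec_secAt j hS h w A V t ht₁ (j ≫ t) rfl wt' r,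
      stalkSec_secAt h A V (j ≫ t) wt' v (by rw [← Category.assoc, cpt_specMap RS RX ψ, Category.assoc, ht₂, hv₀']) r]
    exact hr

end Field

end Groth.Agent.EtStrictBC
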